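import Cfsg.Agent.Lib.Solv.ClassLower.Core

/-!
The orbit bound for a cyclic top acting on a central fixed-point-free element.
-/

set_option autoImplicit false
set_option linter.unusedSectionVars false
set_option linter.style.haveILetI false
set_option maxHeartbeats 1000000

namespace Cfsg.Agent.Solv.ClassLower

/-- Many orbits from a large power map. -/
theorem core_bound {Γ V : Type*} [Group Γ] [Finite Γ] [AddCommGroup V] [Finite V] [Nontrivial V]
    [DistribMulAction Γ V] {q : ℕ} [Fact q.Prime] [Module (ZMod q) V] {p : ℕ} [Fact p.Prime] {l : ℕ}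
    (hl : 5 ≤ l) (hp : p < 2 ^ (l + 1)) (R : Subgroup Γ) (hR : R.Normal) (x h : Γ) (c : ℕ)
    (hxR : ∀ r ∈ R, Commute x r) (hxp : x ^ p = 1) (hfix : ∀ v : V, x • v = v → v = 0)
    (hh : h * x * h⁻¹ = x ^ c) (hsurj : ∀ γ : Γ, ∃ i m : ℕ, ∃ r ∈ R, γ = h ^ i * x ^ m * r)
    (hσ : ∃ m : ℕ, ∃ r ∈ R, h ^ orderOf (c : ZMod p) = r * x ^ m)
    (hk : 3 * l * Nat.card (ConjClasses R) < orderOf (c : ZMod p)) :
    p ≤ 3 * l * Nat.card (MulAction.orbitRel.Quotient Γ V) := by
  classical
  letI := algModule (q := q) (V := V) R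
  haveI := algTower (q := q) (V := V) R
  have hof : ∀ (g : R) (v : V), MonoidAlgebra.of (ZMod q) R g • v = (g : Γ) • v :=
    of_smul (q := q) (V := V) R
  obtain ⟨σ, hσdef⟩ : ∃ σ, σ = orderOf (c : ZMod p) := ⟨_, rfl⟩
  rw [← hσdef] at hσ hk
  have hk0 : 0 < Nat.card (ConjClasses R) := Nat.card_pos
  haveI : FiniteDimensional (ZMod q) V := Module.Finite.of_finite
  -- a simple submodule
  haveI : Finite (Submodule (MonoidAlgebra (ZMod q) R) V) :=
    Finite.of_injective (fun S => (S : Set V)) SetLike.coe_injective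
  obtain ⟨U, hUa, -⟩ := (eq_bot_or_exists_atom_le (⊤ : Submodule (MonoidAlgebra (ZMod q) R) V)).resolve_left
    top_ne_bot
  haveI hU : IsSimpleModule (MonoidAlgebra (ZMod q) R) U := isSimpleModule_iff_isAtom.2 hUa
  obtain ⟨u0, hu0, hu00⟩ := U.exists_mem_ne_zero_of_ne_bot hUa.1
  -- the stabiliser of its class
  let tU : Γ → Submodule (MonoidAlgebra (ZMod q) R) V := fun γ => tw hof hR γ U
  let Fix : Subgroup Γ :=
    { carrier := {γ | Nonempty (tU γ ≃ₗ[MonoidAlgebra (ZMod q) R] U)}
      one_mem' := ⟨LinearEquiv.ofEq _ _ (tw_one hof hR U)⟩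
      mul_mem' := fun {a b} ⟨ea⟩ ⟨eb⟩ => by
        obtain ⟨f⟩ := nonempty_tw_equiv hof hR a eb
        exact ⟨((LinearEquiv.ofEq _ _ (tw_mul hof hR a b U)).trans f).trans ea⟩
      inv_mem' := fun {a} ⟨ea⟩ => by
        obtain ⟨f⟩ := nonempty_tw_equiv hof hR a⁻¹ ea
        refine ⟨f.symm.trans (LinearEquiv.ofEq _ _ ?_)⟩
        rw [← tw_mul, inv_mul_cancel, tw_one] }
  have hRfix : ∀ r ∈ R, r ∈ Fix := fun r hr => by
    refine ⟨LinearEquiv.ofEq _ _ ?_⟩
    have key : ∀ s ∈ R, ∀ v ∈ U, s • v ∈ U := fun s hs v hv => by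
      have := U.smul_mem (MonoidAlgebra.of (ZMod q) R ⟨s, hs⟩) hv
      rwa [hof] at this
    ext v
    refine ⟨fun hv => ?_, fun hv => key _ (inv_mem hr) v hv⟩
    have := key r hr _ hv
    rwa [smul_inv_smul] at this
  -- the operator of x
  have hxcomm : ∀ (g : R) (v : V), x • (g : Γ) • v = (g : Γ) • x • v := fun g v => by
    rw [← mul_smul, ← mul_smul, (hxR g g.2).eq]
  let xA : V →ₗ[MonoidAlgebra (ZMod q) R] V :=
    { toFun := fun v => x • v
      map_add' := smul_add x
      map_smul' := fun r v => smul_comm_of_group hof (U := ⊤)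
        ((DistribMulAction.toAddMonoidEnd Γ V x).comp (Submodule.subtype ⊤).toAddMonoidHom)
        (fun g u => by
          show x • (MonoidAlgebra.of (ZMod q) R g • (u : V)) = (g : Γ) • x • (u : V)
          rw [hof, hxcomm]) r ⟨v, trivial⟩ }
  have hxfix : x ∈ Fix := by
    let f : U →ₗ[MonoidAlgebra (ZMod q) R] tU x :=
      LinearMap.codRestrict (tU x) (xA.comp U.subtype) fun u => tw_mem hof hR x u.2
    refine ⟨(LinearEquiv.ofBijective f ⟨fun a b hab => Subtype.ext ?_, fun v => ?_⟩).symm⟩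
    · exact (MulAction.injective x) (congrArg Subtype.val hab)
    · exact ⟨⟨x⁻¹ • (v : V), v.2⟩, Subtype.ext (smul_inv_smul x (v : V))⟩
  have hσfix : h ^ σ ∈ Fix := by
    obtain ⟨m, r, hr, e⟩ := hσ
    rw [e]
    exact mul_mem (hRfix r hr) (pow_mem hxfix m)
  have hσ0 : 0 < σ := by omega
  have hex : ∃ i, 0 < i ∧ h ^ i ∈ Fix := ⟨σ, hσ0, hσfix⟩
  obtain ⟨j, hjdef⟩ : ∃ j, j = Nat.find hex := ⟨_, rfl⟩
  obtain ⟨hj0, hjfix⟩ : 0 < j ∧ h ^ j ∈ Fix := hjdef ▸ Nat.find_spec hex
  have hjdvd : ∀ i, h ^ i ∈ Fix → j ∣ i := by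
    intro i hi
    by_contra hnd
    have h1 : 0 < i % j := Nat.pos_of_ne_zero fun e => hnd (Nat.dvd_of_mod_eq_zero e)
    have h2 : h ^ (i % j) ∈ Fix := by
      have h3 : h ^ (i % j) = ((h ^ j) ^ (i / j))⁻¹ * h ^ i := by
        rw [eq_inv_mul_iff_mul_eq, ← pow_mul, ← pow_add, Nat.div_add_mod]
      rw [h3]
      exact mul_mem (inv_mem (pow_mem hjfix _)) hi
    have h4 : j ≤ i % j := hjdef ▸ Nat.find_min' (m := i % j) hex (And.intro h1 h2)
    exact absurd (Nat.mod_lt i hj0) (by omega)
  obtain ⟨s, hs⟩ : j ∣ σ := hjdvd σ hσfix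
  -- the endomorphism field
  obtain ⟨e, he⟩ : ∃ e, e = Module.finrank (ZMod q) (Module.End (MonoidAlgebra (ZMod q) R) U) := ⟨_, rfl⟩
  haveI : Finite (Module.End (MonoidAlgebra (ZMod q) R) U) :=
    Finite.of_injective (fun f : Module.End (MonoidAlgebra (ZMod q) R) U => (f : U → U)) DFunLike.coe_injective
  haveI : IsSimpleModule (MonoidAlgebra (ZMod q) R) U := hU
  have hcardE : Nat.card (Module.End (MonoidAlgebra (ZMod q) R) U) = q ^ e := by
    rw [Module.natCard_eq_pow_finrank (K := ZMod q), Nat.card_zmod, he]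
  have he1 : 1 ≤ e := by
    rcases Nat.eq_zero_or_pos e with h0 | h0
    · haveI : Nontrivial U := IsSimpleModule.nontrivial (MonoidAlgebra (ZMod q) R) U
      rw [h0, pow_zero] at hcardE
      have := Finite.one_lt_card (α := Module.End (MonoidAlgebra (ZMod q) R) U)
      omega
    · exact h0
  have hje : j * e ≤ Nat.card (ConjClasses R) := by
    let Us : Fin j → Submodule (MonoidAlgebra (ZMod q) R) V := fun i => tU (h ^ (i : ℕ))
    haveI : ∀ i, IsSimpleModule (MonoidAlgebra (ZMod q) R) (Us i) := fun i => isSimple_tw hof hR _ hU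
    have hne : ∀ i i' : Fin j, (i : ℕ) < i' →
        IsEmpty (Us i' ≃ₗ[MonoidAlgebra (ZMod q) R] Us i) := fun i i' hlt => ⟨fun f => by
      obtain ⟨g⟩ := nonempty_tw_equiv hof hR (h ^ (i : ℕ))⁻¹ f
      have h1 : (h ^ (i : ℕ))⁻¹ * h ^ (i' : ℕ) ∈ Fix :=
        ⟨((LinearEquiv.ofEq _ _ (tw_mul hof hR _ _ U)).trans g).trans (LinearEquiv.ofEq _ _ (by
          rw [← tw_mul, inv_mul_cancel, tw_one]))⟩
      rw [show (h ^ (i : ℕ))⁻¹ * h ^ (i' : ℕ) = h ^ ((i' : ℕ) - i) by
        rw [inv_mul_eq_iff_eq_mul, ← pow_add, Nat.add_sub_cancel' hlt.le]] at h1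
      have h2 := Nat.le_of_dvd (by omega) (hjdvd _ h1)
      have := i'.2
      omega⟩
    have h1 := sum_finrank_end_le Us fun i i' hii => by
      rcases lt_or_gt_of_ne (fun e => hii (Fin.ext e)) with hlt | hlt
      · exact ⟨fun f => (hne i i' hlt).false f.symm⟩
      · exact hne i' i hlt
    have h2 : ∀ i, Module.finrank (ZMod q) (Module.End (MonoidAlgebra (ZMod q) R) (Us i)) = e := by
      intro i
      haveI : Finite (Module.End (MonoidAlgebra (ZMod q) R) (Us i)) :=
        Finite.of_injective (fun f : Module.End (MonoidAlgebra (ZMod q) R) (Us i) => (f : Us i → Us i))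
          DFunLike.coe_injective
      have h3 := card_end_tw hof hR (h ^ (i : ℕ)) U
      rw [Module.natCard_eq_pow_finrank (K := ZMod q), hcardE, Nat.card_zmod] at h3
      exact Nat.pow_right_injective (Fact.out : q.Prime).two_le h3
    simp only [h2, Finset.sum_const, Finset.card_univ, Fintype.card_fin, smul_eq_mul] at h1
    exact h1
  -- the space of homomorphisms
  haveI : SMulCommClass (MonoidAlgebra (ZMod q) R) (ZMod q) V :=
    ⟨fun r a v => by rw [← ZMod.natCast_zmod_val a, Nat.cast_smul_eq_nsmul, Nat.cast_smul_eq_nsmul, smul_comm]⟩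
  haveI : Finite (U →ₗ[MonoidAlgebra (ZMod q) R] V) :=
    Finite.of_injective (fun f : U →ₗ[MonoidAlgebra (ZMod q) R] V => (f : U → V)) DFunLike.coe_injective
  haveI : Nontrivial (U →ₗ[MonoidAlgebra (ZMod q) R] V) := ⟨⟨U.subtype, 0, fun e => hu00 (by
    have := LinearMap.congr_fun e ⟨u0, hu0⟩
    simpa using this)⟩⟩
  obtain ⟨X, hX⟩ : ∃ X, X = Module.finrank (ZMod q) (U →ₗ[MonoidAlgebra (ZMod q) R] V) := ⟨_, rfl⟩
  have hcj : orderOf ((c ^ j : ℕ) : ZMod p) = s := by
    rw [Nat.cast_pow, orderOf_pow_of_dvd (by omega) ⟨s, by rw [← hσdef, hs]⟩, ← hσdef, hs,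
      Nat.mul_div_cancel_left _ hj0]
  have hsX : s ≤ X := by
    obtain ⟨ι⟩ := hjfix
    -- translation by a power of h composed with an isomorphism
    have hlin : ∀ (φ : U →ₗ[MonoidAlgebra (ZMod q) R] V) (r : MonoidAlgebra (ZMod q) R) (u : U),
        h ^ j • φ ((twE hof hR (h ^ j) U).symm (ι.symm (r • u))) =
          r • h ^ j • φ ((twE hof hR (h ^ j) U).symm (ι.symm u)) := by
      intro φ r u
      refine smul_comm_of_group hof ((DistribMulAction.toAddMonoidEnd Γ V (h ^ j)).comp
        (φ.toAddMonoidHom.comp ((twE hof hR (h ^ j) U).symm.toAddMonoidHom.comp ι.symm.toAddEquiv.toAddMonoidHom)))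
        (fun g w => ?_) r u
      have hg : (h ^ j)⁻¹ * (g : Γ) * h ^ j ∈ R := by simpa using hR.conj_mem g g.2 (h ^ j)⁻¹
      show h ^ j • φ ((twE hof hR (h ^ j) U).symm (ι.symm (MonoidAlgebra.of (ZMod q) R g • w))) = _
      rw [map_smul, show (twE hof hR (h ^ j) U).symm (MonoidAlgebra.of (ZMod q) R g • ι.symm w) =
        MonoidAlgebra.of (ZMod q) R ⟨_, hg⟩ • (twE hof hR (h ^ j) U).symm (ι.symm w) from Subtype.ext (by
          show (h ^ j)⁻¹ • (MonoidAlgebra.of (ZMod q) R g • ((ι.symm w : tU (h ^ j)) : V)) =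
            MonoidAlgebra.of (ZMod q) R ⟨_, hg⟩ • ((h ^ j)⁻¹ • ((ι.symm w : tU (h ^ j)) : V))
          rw [hof, hof, ← mul_smul, ← mul_smul]; simp [mul_assoc]), map_smul, hof, ← mul_smul]
      simp only [mul_assoc, mul_inv_cancel_left]
      rw [mul_smul]
      rfl
    let Φ : (U →ₗ[MonoidAlgebra (ZMod q) R] V) →+ (U →ₗ[MonoidAlgebra (ZMod q) R] V) :=
      { toFun := fun φ =>
          { toFun := fun u => h ^ j • φ ((twE hof hR (h ^ j) U).symm (ι.symm u))
            map_add' := fun a b => by simp [smul_add]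
            map_smul' := hlin φ }
        map_zero' := by ext u; simp
        map_add' := fun φ ψ => by ext u; simp [smul_add] }
    let ΦL := Φ.toZModLinearMap q
    have hinj : Function.Injective ΦL := by
      intro φ ψ e
      refine LinearMap.ext fun w => ?_
      have := LinearMap.congr_fun e (ι ((twE hof hR (h ^ j) U) w))
      simpa [ΦL, Φ] using this
    let Xop : Module.End (ZMod q) (U →ₗ[MonoidAlgebra (ZMod q) R] V) :=
      ({ toFun := fun φ => xA.comp φ
         map_zero' := LinearMap.comp_zero _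
         map_add' := fun φ ψ => LinearMap.comp_add _ _ _ } :
        (U →ₗ[MonoidAlgebra (ZMod q) R] V) →+ (U →ₗ[MonoidAlgebra (ZMod q) R] V)).toZModLinearMap q
    have hXpow : ∀ (n : ℕ) (φ : U →ₗ[MonoidAlgebra (ZMod q) R] V) (u : U),
        ((Xop ^ n) φ) u = x ^ n • φ u := by
      intro n
      induction n with
      | zero => intro φ u; simp
      | succ n ih =>
        intro φ u
        rw [pow_succ', pow_succ', mul_smul, ← ih φ u]
        rfl
    have h1 := orderOf_le_finrank (p := p) Xop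
      (LinearMap.ext fun φ => LinearMap.ext fun u => by rw [hXpow, hxp, one_smul]; rfl)
      (fun φ hφ => LinearMap.ext fun u => by
        have := LinearMap.congr_fun hφ u
        exact hfix _ this)
      (LinearEquiv.ofInjectiveEndo ΦL hinj) (c ^ j)
      (fun φ => LinearMap.ext fun u => by
        rw [hXpow]
        show h ^ j • x • φ _ = x ^ c ^ j • h ^ j • φ _
        have hpw : ∀ n : ℕ, h ^ n * x * (h ^ n)⁻¹ = x ^ c ^ n := by
          intro n
          induction n with
          | zero => simp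
          | succ n ih =>
            rw [pow_succ', mul_inv_rev, show h * h ^ n * x * ((h ^ n)⁻¹ * h⁻¹) =
              h * (h ^ n * x * (h ^ n)⁻¹) * h⁻¹ by group, ih, ← conj_pow, hh, ← pow_mul, ← pow_succ']
        rw [← hpw j, ← mul_smul, ← mul_smul]
        simp [mul_assoc])
    rw [hcj, ← hX] at h1
    exact h1
  -- counting
  obtain ⟨o, ho⟩ : ∃ o, o = Nat.card (MulAction.orbitRel.Quotient Γ V) := ⟨_, rfl⟩
  have hcount : q ^ X ≤ o * (s * p) * q ^ e + 1 := by
    haveI := Fintype.ofFinite (U →ₗ[MonoidAlgebra (ZMod q) R] V)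
    haveI := Fintype.ofFinite (MulAction.orbitRel.Quotient Γ V)
    haveI := Fintype.ofFinite (Module.End (MonoidAlgebra (ZMod q) R) U)
    let S : Finset (U →ₗ[MonoidAlgebra (ZMod q) R] V) := Finset.univ.filter fun φ => φ ≠ 0
    let f : (U →ₗ[MonoidAlgebra (ZMod q) R] V) → MulAction.orbitRel.Quotient Γ V :=
      fun φ => Quotient.mk'' (φ ⟨u0, hu0⟩)
    have hinj : ∀ φ : U →ₗ[MonoidAlgebra (ZMod q) R] V, φ ≠ 0 → Function.Injective φ := fun φ hφ =>
      (LinearMap.injective_or_eq_zero φ).resolve_right hφ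
    have hfib : ∀ b ∈ Finset.univ, (S.filter fun φ => f φ = b).card ≤ s * p * q ^ e := by
      intro b _
      rcases (S.filter fun φ => f φ = b).eq_empty_or_nonempty with h0 | ⟨φ0, hφ0⟩
      · rw [h0]; simp
      simp only [S, Finset.mem_filter, Finset.mem_univ, true_and] at hφ0
      have hU0 : ∀ φ : U →ₗ[MonoidAlgebra (ZMod q) R] V, φ ≠ 0 → IsAtom (LinearMap.range φ) := fun φ hφ => by
        rw [← isSimpleModule_iff_isAtom]
        exact IsSimpleModule.congr (LinearEquiv.ofInjective φ (hinj φ hφ)).symm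
      have hdec : ∀ φ ∈ S.filter (fun φ => f φ = b), ∃ a m : ℕ, a < s ∧ m < p ∧
          ∃ r ∈ R, φ ⟨u0, hu0⟩ = (h ^ (j * a) * x ^ m) • r • φ0 ⟨u0, hu0⟩ ∧
            LinearMap.range φ = tw hof hR (h ^ (j * a) * x ^ m) (LinearMap.range φ0) := by
        intro φ hφ
        simp only [S, Finset.mem_filter, Finset.mem_univ, true_and] at hφ
        have he := hφ.2.trans hφ0.2.symm
        obtain ⟨γ, hγ⟩ := MulAction.orbitRel_apply.1 (Quotient.exact' he)
        simp only at hγ
        obtain ⟨i, m, r, hr, rfl⟩ := hsurj γ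
        have hrange : LinearMap.range φ = tw hof hR (h ^ i * x ^ m) (LinearMap.range φ0) := by
          have hat := isSimpleModule_iff_isAtom.1 (isSimple_tw hof hR (h ^ i * x ^ m)
            (isSimpleModule_iff_isAtom.2 (hU0 φ0 hφ0.1)))
          have hmem : φ ⟨u0, hu0⟩ ∈ LinearMap.range φ ⊓ tw hof hR (h ^ i * x ^ m) (LinearMap.range φ0) := by
            refine ⟨⟨_, rfl⟩, ?_⟩
            rw [← hγ, mul_smul]
            refine tw_mem hof hR _ ?_
            exact ⟨MonoidAlgebra.of (ZMod q) R ⟨r, hr⟩ • ⟨u0, hu0⟩, by rw [map_smul, hof]⟩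
          have hne : φ ⟨u0, hu0⟩ ≠ 0 := fun h0 => hu00 (by
            have h1 := hinj φ hφ.1 (h0.trans (map_zero φ).symm)
            exact congrArg Subtype.val h1)
          by_contra hh'
          rw [((hU0 φ hφ.1).disjoint_of_ne hat hh').eq_bot, Submodule.mem_bot] at hmem
          exact hne hmem
        have hfixi : h ^ i ∈ Fix := by
          have hg : h ^ i * x ^ m ∈ Fix := by
            obtain ⟨g⟩ := nonempty_tw_equiv hof hR (h ^ i * x ^ m)
              (LinearEquiv.ofInjective φ0 (hinj φ0 hφ0.1)).symm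
            exact ⟨g.symm.trans ((LinearEquiv.ofEq _ _ hrange.symm).trans
              (LinearEquiv.ofInjective φ (hinj φ hφ.1)).symm)⟩
          have := mul_mem hg (inv_mem (pow_mem hxfix m))
          rwa [mul_inv_cancel_right] at this
        obtain ⟨a, rfl⟩ := hjdvd i hfixi
        obtain ⟨m₀, r₀, hr₀, e₀⟩ := hσ
        -- reduce the exponent of h modulo σ and of x modulo p
        have hx' : ∀ k, ∃ r' ∈ R, ∃ k', h ^ (σ * k) = r' * x ^ k' := by
          intro k
          induction k with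
          | zero => exact ⟨1, one_mem R, 0, by simp⟩
          | succ k ih =>
            obtain ⟨r', hr', k', e'⟩ := ih
            refine ⟨r' * r₀, mul_mem hr' hr₀, k' + m₀, ?_⟩
            rw [Nat.mul_succ, pow_add, e', e₀, mul_assoc, ← mul_assoc (x ^ k'),
              ((hxR r₀ hr₀).pow_left k').eq, mul_assoc, mul_assoc, pow_add]
        obtain ⟨r', hr', k', e'⟩ := hx' (a / s)
        have hsplit : h ^ (j * a) * x ^ m * r = h ^ (j * (a % s)) * x ^ ((k' + m) % p) * (r' * r) := by
          conv_lhs => rw [← Nat.mod_add_div a s, Nat.mul_add, ← Nat.mul_assoc j s, ← hs, pow_add, e']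
          have hxm : x ^ ((k' + m) % p) = x ^ k' * x ^ m := by
            rw [← pow_add]; exact (pow_eq_pow_mod _ hxp).symm
          rw [hxm]
          have hc1 : r' * (x ^ k' * x ^ m) = x ^ k' * x ^ m * r' :=
            (((hxR r' hr').pow_left k').mul_left ((hxR r' hr').pow_left m)).eq.symm
          simp only [mul_assoc] at hc1 ⊢
          rw [← mul_assoc r' (x ^ k'), ← mul_assoc (r' * x ^ k'), mul_assoc r', hc1]
          simp only [mul_assoc]
        refine ⟨a % s, (k' + m) % p, Nat.mod_lt _ (Nat.pos_of_ne_zero fun e => by simp [e] at hs; omega),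
          Nat.mod_lt _ (Fact.out : p.Prime).pos, r' * r, mul_mem hr' hr, ?_, ?_⟩
        · rw [← hγ, hsplit, mul_smul]
        · rw [hrange]
          have h1 : h ^ (j * a) * x ^ m = h ^ (j * (a % s)) * x ^ ((k' + m) % p) * (r' * r) * r⁻¹ := by
            rw [← hsplit, mul_inv_cancel_right]
          rw [h1, show h ^ (j * (a % s)) * x ^ ((k' + m) % p) * (r' * r) * r⁻¹ =
            h ^ (j * (a % s)) * x ^ ((k' + m) % p) * r' by group, tw_mul]
          congr 1
          ext v
          have key : ∀ t ∈ R, ∀ w ∈ LinearMap.range φ0, t • w ∈ LinearMap.range φ0 := by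
            rintro t ht _ ⟨w, rfl⟩
            exact ⟨MonoidAlgebra.of (ZMod q) R ⟨t, ht⟩ • w, by rw [map_smul, hof]⟩
          rw [mem_tw]
          refine ⟨fun hv => ?_, fun hv => key _ (inv_mem hr') v hv⟩
          have := key r' hr' _ hv
          rwa [smul_inv_smul] at this
      choose! av mv hav using hdec
      let key : (U →ₗ[MonoidAlgebra (ZMod q) R] V) → ℕ × ℕ := fun φ => (av φ, mv φ)
      calc (S.filter fun φ => f φ = b).card
          ≤ q ^ e * ((S.filter fun φ => f φ = b).image key).card := by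
            refine Finset.card_le_mul_card_image _ _ fun z hz => ?_
            obtain ⟨φ1, hφ1, rfl⟩ := Finset.mem_image.1 hz
            rw [← hcardE, Nat.card_eq_fintype_card, ← Finset.card_univ]
            have hsub : ((S.filter fun φ => f φ = b).filter fun φ => key φ = key φ1) ⊆
                Finset.univ.image fun ε : Module.End (MonoidAlgebra (ZMod q) R) U => φ1.comp ε := by
              intro φ hφ
              obtain ⟨hφS, hk'⟩ := Finset.mem_filter.1 hφ
              obtain ⟨-, -, r, hr, -, hr1⟩ := hav φ hφS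
              obtain ⟨-, -, r2, hr2, -, hr3⟩ := hav φ1 hφ1
              simp only [key, Prod.mk.injEq] at hk'
              rw [hk'.1, hk'.2] at hr1
              have hφ1' : φ1 ≠ 0 := by
                simp only [S, Finset.mem_filter, Finset.mem_univ, true_and] at hφ1
                exact hφ1.1
              let e1 := LinearEquiv.ofInjective φ1 (hinj φ1 hφ1')
              refine Finset.mem_image.2 ⟨e1.symm.toLinearMap.comp (LinearMap.codRestrict (LinearMap.range φ1) φ
                (fun u => by rw [hr3, ← hr1]; exact ⟨u, rfl⟩)), Finset.mem_univ _, LinearMap.ext fun u => ?_⟩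
              show φ1 (e1.symm _) = φ u
              exact LinearEquiv.ofInjective_symm_apply φ1 _
            exact (Finset.card_le_card hsub).trans Finset.card_image_le
        _ ≤ q ^ e * (Finset.range s ×ˢ Finset.range p).card := by
            refine Nat.mul_le_mul_left _ (Finset.card_le_card fun z hz => ?_)
            obtain ⟨φ, hφ, rfl⟩ := Finset.mem_image.1 hz
            obtain ⟨h1, h2, -⟩ := hav φ hφ
            exact Finset.mem_product.2 ⟨Finset.mem_range.2 h1, Finset.mem_range.2 h2⟩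
        _ = s * p * q ^ e := by rw [Finset.card_product, Finset.card_range, Finset.card_range]; ring
    have hS : S.card + 1 = q ^ X := by
      have hc := Module.natCard_eq_pow_finrank (K := ZMod q) (V := U →ₗ[MonoidAlgebra (ZMod q) R] V)
      rw [Nat.card_zmod, ← hX] at hc
      rw [← hc, Nat.card_eq_fintype_card,
        ← Finset.card_univ, show S = Finset.univ.erase 0 from by ext φ; simp [S],
        Finset.card_erase_add_one (Finset.mem_univ _)]
    have h2 := Finset.card_le_mul_card_image_of_maps_to (f := f) (s := S) (t := Finset.univ)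
      (fun _ _ => Finset.mem_univ _) _ hfib
    rw [Finset.card_univ, ← Nat.card_eq_fintype_card, ← ho] at h2
    rw [← hS]
    have : o * (s * p) * q ^ e = s * p * q ^ e * o := by ring
    omega
  have hsbig : 3 * l * e < s := by
    have h1 : j * (3 * l * e) < j * s := by
      calc j * (3 * l * e) = 3 * l * (j * e) := by ring
        _ ≤ 3 * l * Nat.card (ConjClasses R) := Nat.mul_le_mul_left _ hje
        _ < σ := hk
        _ = j * s := hs
    exact Nat.lt_of_mul_lt_mul_left h1
  rw [← ho]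
  exact arith_core (Fact.out : q.Prime).two_le he1 hl hsbig hsX hp hcount

end Cfsg.Agent.Solv.ClassLower
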