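import Mathlib

/-!
Generating families of `p`-groups and index bounds for centralisers of normal subgroups.
-/

set_option autoImplicit false
set_option linter.unusedSectionVars false
set_option linter.style.haveILetI false

namespace Cfsg.Agent.Solv.ClassLower

/-- A `p`-group is generated over a subgroup of index `p ^ n` by `n` elements. -/
theorem exists_gens {G : Type*} [Group G] [Finite G] {p : ℕ} [Fact p.Prime] {E : Subgroup G}
    (hE : IsPGroup p E) : ∀ (n : ℕ) (K : Subgroup G), K ≤ E → Nat.card E ≤ p ^ n * Nat.card K →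
      ∃ f : Fin n → G, (∀ i, f i ∈ E) ∧ E = K ⊔ Subgroup.closure (Set.range f) := by
  intro n
  induction n with
  | zero =>
    intro K hK hc
    rw [pow_zero, one_mul] at hc
    refine ⟨Fin.elim0, fun i => i.elim0, ?_⟩
    rw [Set.range_eq_empty, Subgroup.closure_empty, sup_bot_eq, Subgroup.eq_of_le_of_card_ge hK hc]
  | succ n ih =>
    intro K hK hc
    by_cases hKE : K = E
    · refine ⟨fun _ => 1, fun _ => one_mem E, ?_⟩
      rw [hKE, left_eq_sup, Subgroup.closure_le]
      rintro _ ⟨i, rfl⟩
      exact one_mem E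
    obtain ⟨x, hxE, hxK⟩ := SetLike.exists_of_lt (lt_of_le_of_ne hK hKE)
    obtain ⟨K', hK'def⟩ : ∃ K', K' = K ⊔ Subgroup.zpowers x := ⟨_, rfl⟩
    have hK' : K' ≤ E := hK'def ▸ sup_le hK (Subgroup.zpowers_le.2 hxE)
    have hxK' : x ∈ K' := hK'def ▸ Subgroup.mem_sup_right (Subgroup.mem_zpowers x)
    have hKK' : K ≤ K' := hK'def ▸ le_sup_left
    obtain ⟨a, ha⟩ := IsPGroup.iff_card.1 (hE.to_le hK)
    obtain ⟨b, hb⟩ := IsPGroup.iff_card.1 (hE.to_le hK')
    have hlt : Nat.card K < Nat.card K' := by
      refine lt_of_not_ge fun hge => hxK ?_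
      rw [Subgroup.eq_of_le_of_card_ge hKK' hge]
      exact hxK'
    have hmul : p * Nat.card K ≤ Nat.card K' := by
      rw [ha, hb] at hlt ⊢
      rw [← pow_succ']
      exact Nat.pow_le_pow_right (Fact.out : p.Prime).pos
        ((Nat.pow_lt_pow_iff_right (Fact.out : p.Prime).one_lt).1 hlt)
    obtain ⟨f, hf, hfE⟩ := ih K' hK' (hc.trans (by rw [pow_succ, mul_assoc]; exact Nat.mul_le_mul_left _ hmul))
    refine ⟨Fin.cons x f, fun i => Fin.cases hxE hf i, ?_⟩
    refine le_antisymm (hfE.le.trans (sup_le (hK'def ▸ sup_le le_sup_left ?_) ?_)) (sup_le hK ?_)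
    · exact Subgroup.zpowers_le.2 (Subgroup.mem_sup_right (Subgroup.subset_closure ⟨0, rfl⟩))
    · rw [Subgroup.closure_le]
      rintro _ ⟨i, rfl⟩
      exact Subgroup.mem_sup_right (Subgroup.subset_closure ⟨i.succ, by simp⟩)
    · rw [Subgroup.closure_le]
      rintro _ ⟨i, rfl⟩
      exact Fin.cases hxE hf i

/-- The centraliser of a normal subgroup with `n` generators has index at most `|E| ^ n`. -/
theorem index_centralizer_le {G : Type*} [Group G] [Finite G] (E : Subgroup G) [E.Normal] {n : ℕ}
    (f : Fin n → G) (hf : ∀ i, f i ∈ E) (hE : E ≤ Subgroup.closure (Set.range f)) :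
    (Subgroup.centralizer (E : Set G)).index ≤ Nat.card E ^ n := by
  classical
  rw [Subgroup.index_eq_card]
  let φ : G → Fin n → E := fun g i => ⟨g * f i * g⁻¹, (inferInstance : E.Normal).conj_mem _ (hf i) g⟩
  calc Nat.card (G ⧸ Subgroup.centralizer (E : Set G)) ≤ Nat.card (Fin n → E) := by
        refine Nat.card_le_card_of_injective (fun c => φ c.out) fun c d hcd => ?_
        rw [← Quotient.out_eq' c, ← Quotient.out_eq' d]
        refine QuotientGroup.eq.2 ?_
        have hfix : ∀ i, Commute (c.out⁻¹ * d.out) (f i) := fun i => by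
          have h1 : c.out * f i * c.out⁻¹ = d.out * f i * d.out⁻¹ := congrArg Subtype.val (congrFun hcd i)
          show c.out⁻¹ * d.out * f i = f i * (c.out⁻¹ * d.out)
          calc c.out⁻¹ * d.out * f i = c.out⁻¹ * (d.out * f i * d.out⁻¹) * d.out := by group
            _ = f i * (c.out⁻¹ * d.out) := by rw [← h1]; group
        refine Subgroup.mem_centralizer_iff.2 fun e he => ?_
        have hcl : Subgroup.closure (Set.range f) ≤ Subgroup.centralizer {c.out⁻¹ * d.out} := by
          rw [Subgroup.closure_le]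
          rintro _ ⟨i, rfl⟩
          exact Subgroup.mem_centralizer_singleton_iff.2 (hfix i).eq.symm
        exact Subgroup.mem_centralizer_singleton_iff.1 (hcl (hE he))
    _ = Nat.card E ^ n := by rw [Nat.card_fun, Nat.card_fin]

end Cfsg.Agent.Solv.ClassLower
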