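import Mathlib

/-!
Independent eigenspaces for an abelian subgroup paired with a central fixed-point-free element, and
the orbit count they force.
-/

set_option autoImplicit false
set_option linter.unusedSectionVars false
set_option linter.style.haveILetI false

namespace Cfsg.Agent.Solv.ClassLower

variable {H V : Type*} [Group H] [Finite H] [AddCommGroup V] [Finite V] [DistribMulAction H V]

theorem eq_zero_of_coprime {p : ℕ} (hV : (Nat.card V).Coprime p) {u : V} (h : p • u = 0) : u = 0 := by
  have h1 : addOrderOf u ∣ Nat.gcd (Nat.card V) p :=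
    Nat.dvd_gcd (addOrderOf_dvd_natCard u) (addOrderOf_dvd_of_nsmul_eq_zero h)
  rw [hV.gcd_eq_one, Nat.dvd_one] at h1
  exact AddMonoid.addOrderOf_eq_one_iff.1 h1

/-- A family of nonzero independent subgroups, invariant under a normal subgroup, forces many
orbits. -/
theorem two_pow_le_orbits {ι : Type*} [Fintype ι] (U : ι → AddSubgroup V) (hne : ∀ i, U i ≠ ⊥)
    (hind : ∀ u : ι → V, (∀ i, u i ∈ U i) → ∑ i, u i = 0 → ∀ i, u i = 0) (S : Subgroup H) [S.Normal]
    (hS : ∀ s ∈ S, ∀ i, ∀ u ∈ U i, s • u ∈ U i) :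
    2 ^ Fintype.card ι ≤ Nat.card (MulAction.orbitRel.Quotient H V) * S.index := by
  classical
  have hw : ∀ i, ∃ w : V, w ∈ U i ∧ w ≠ 0 := fun i => by
    obtain ⟨w, hw⟩ := (U i).ne_bot_iff_exists_ne_zero.1 (hne i)
    exact ⟨w, w.2, fun h => hw (Subtype.ext h)⟩
  choose u hu hu0 using hw
  let vec : Finset ι → V := fun T => ∑ i, if i ∈ T then u i else 0
  have hsupp : ∀ s ∈ S, ∀ T T' : Finset ι, s • vec T = vec T' → T = T' := by
    intro s hs T T' h
    have h1 := hind (fun i => (if i ∈ T then s • u i else 0) - if i ∈ T' then u i else 0) (fun i => by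
      refine (U i).sub_mem ?_ ?_ <;> split_ifs
      exacts [hS s hs i _ (hu i), zero_mem _, hu i, zero_mem _]) (by
      rw [Finset.sum_sub_distrib, sub_eq_zero]
      refine Eq.trans ?_ h
      rw [Finset.smul_sum]
      exact Finset.sum_congr rfl fun i _ => by split_ifs <;> simp)
    ext i
    have h2 := h1 i
    by_cases hT : i ∈ T <;> by_cases hT' : i ∈ T'
    · simp [hT, hT']
    · simp only [hT, hT', if_true, if_false, sub_zero, smul_eq_zero_iff_eq] at h2
      exact absurd h2 (hu0 i)
    · simp only [hT, hT', if_true, if_false, zero_sub, neg_eq_zero] at h2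
      exact absurd h2 (hu0 i)
    · simp [hT, hT']
  haveI := Fintype.ofFinite (MulAction.orbitRel.Quotient H V)
  haveI := Fintype.ofFinite (H ⧸ S)
  let f : Finset ι → MulAction.orbitRel.Quotient H V := fun T => Quotient.mk'' (vec T)
  have hfib : ∀ b ∈ (Finset.univ : Finset (MulAction.orbitRel.Quotient H V)),
      ((Finset.univ : Finset (Finset ι)).filter fun T => f T = b).card ≤ S.index := by
    intro b _
    rcases ((Finset.univ : Finset (Finset ι)).filter fun T => f T = b).eq_empty_or_nonempty with h0 | ⟨T0, hT0⟩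
    · rw [h0]; simp
    rw [Finset.mem_filter] at hT0
    have hex : ∀ T ∈ (Finset.univ : Finset (Finset ι)).filter (fun T => f T = b),
        ∃ g : H, g • vec T0 = vec T := fun T hT => by
      rw [Finset.mem_filter] at hT
      exact MulAction.orbitRel_apply.1 (Quotient.exact' (hT.2.trans hT0.2.symm))
    choose! g hg using hex
    rw [Subgroup.index_eq_card, Nat.card_eq_fintype_card, ← Finset.card_univ]
    refine Finset.card_le_card_of_injOn (fun T => (g T : H ⧸ S)) (fun _ _ => Finset.mem_univ _) ?_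
    intro T hT T' hT' e
    rw [Finset.mem_coe] at hT hT'
    have hs : g T' * (g T)⁻¹ ∈ S := by
      have h1 := QuotientGroup.eq.1 e
      have h2 := (inferInstance : S.Normal).conj_mem _ h1 (g T)
      rwa [show g T * ((g T)⁻¹ * g T') * (g T)⁻¹ = g T' * (g T)⁻¹ by group] at h2
    refine hsupp _ hs T T' ?_
    rw [← hg T hT, ← hg T' hT', ← mul_smul, inv_mul_cancel_right]
  have h := Finset.card_le_mul_card_image_of_maps_to (f := f) (s := Finset.univ) (t := Finset.univ)
    (fun _ _ => Finset.mem_univ _) _ hfib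
  rw [Finset.card_univ, Fintype.card_finset, Finset.card_univ, ← Nat.card_eq_fintype_card (α := MulAction.orbitRel.Quotient H V)] at h
  rw [mul_comm]
  exact h

/-- The eigenspaces of an abelian group of exponent `p` paired with a central element. -/
theorem exists_split {p : ℕ} [Fact p.Prime] (hV : (Nat.card V).Coprime p) [Nontrivial V]
    (P : Subgroup H) (z : H) (hzp : z ^ p = 1) (hfix : ∀ v : V, z • v = v → v = 0) :
    ∀ (n : ℕ) (A : Subgroup H), Nat.card A ≤ n → A ≤ P → z ∈ A →
      (∀ a ∈ A, ∀ b ∈ A, Commute a b) → (∀ a ∈ A, a ^ p = 1) →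
      (∀ a ∈ A, ∀ y ∈ P, y * a * y⁻¹ * a⁻¹ ∈ Subgroup.zpowers z) →
      (∀ a ∈ A, (∀ y ∈ P, Commute y a) → a ∈ Subgroup.zpowers z) →
      (∀ y ∈ P, Commute y z) →
      ∃ (ι : Type) (_ : Fintype ι) (U : ι → AddSubgroup V), Fintype.card ι * p = Nat.card A ∧
        (∀ i, U i ≠ ⊥) ∧ (∀ u : ι → V, (∀ i, u i ∈ U i) → ∑ i, u i = 0 → ∀ i, u i = 0) ∧
        ∀ g : H, (∀ a ∈ A, Commute g a) → ∀ i, ∀ u ∈ U i, g • u ∈ U i := by
  classical
  have hp := (Fact.out : p.Prime)
  have hz1 : z ≠ 1 := by
    rintro rfl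
    obtain ⟨v, hv⟩ := exists_ne (0 : V)
    exact hv (hfix v (one_smul _ v))
  have hzo : orderOf z = p := orderOf_eq_prime hzp hz1
  intro n
  induction n with
  | zero => intro A hA; have := Nat.card_pos (α := A); omega
  | succ n ih =>
    intro A hcard hAP hzA hAc hAp hcomm hcen hPz
    by_cases hAz : A ≤ Subgroup.zpowers z
    · refine ⟨Unit, inferInstance, fun _ => ⊤, ?_, fun _ => top_ne_bot, fun u _ h _ => by simpa using h,
        fun g _ _ u _ => AddSubgroup.mem_top _⟩
      rw [Fintype.card_unit, one_mul, le_antisymm hAz (Subgroup.zpowers_le.2 hzA), Nat.card_zpowers, hzo]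
    obtain ⟨e0, he0A, he0z⟩ := SetLike.not_le_iff_exists.1 hAz
    obtain ⟨y, hyP, hy⟩ : ∃ y ∈ P, ¬ Commute y e0 := by
      by_contra hno
      push Not at hno
      exact he0z (hcen e0 he0A hno)
    obtain ⟨A', hA'def⟩ : ∃ A', A' = A ⊓ Subgroup.centralizer {y} := ⟨_, rfl⟩
    have hA'A : A' ≤ A := hA'def ▸ inf_le_left
    have hA'y : ∀ a ∈ A', Commute y a := fun a ha => by
      rw [hA'def, Subgroup.mem_inf, Subgroup.mem_centralizer_singleton_iff] at ha
      exact ha.2.symm
    have hzA' : z ∈ A' := by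
      rw [hA'def, Subgroup.mem_inf, Subgroup.mem_centralizer_singleton_iff]
      exact ⟨hzA, (hPz y hyP).eq.symm⟩
    -- the commutator with `y`
    have hzz : ∀ c ∈ Subgroup.zpowers z, ∀ a ∈ A, Commute c a := fun c hc a ha =>
      hAc c ((Subgroup.zpowers_le.2 hzA : _ ≤ A) hc) a ha
    let φ : A →* Subgroup.zpowers z :=
      { toFun := fun a => ⟨y * a * y⁻¹ * (a : H)⁻¹, hcomm a a.2 y hyP⟩
        map_one' := Subtype.ext (by simp)
        map_mul' := fun a b => Subtype.ext (by
          show y * (a * b : H) * y⁻¹ * ((a * b : H))⁻¹ = (y * a * y⁻¹ * (a : H)⁻¹) * (y * b * y⁻¹ * (b : H)⁻¹)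
          calc y * (a * b : H) * y⁻¹ * ((a * b : H))⁻¹
              = (y * a * y⁻¹ * (a : H)⁻¹) * ((a : H) * (y * b * y⁻¹ * (b : H)⁻¹) * (a : H)⁻¹) := by group
            _ = _ := by rw [← (hzz _ (hcomm b b.2 y hyP) a a.2).eq, mul_inv_cancel_right]) }
    have hker : φ.ker = A'.subgroupOf A := by
      ext a
      rw [MonoidHom.mem_ker, Subgroup.mem_subgroupOf, hA'def, Subgroup.mem_inf,
        Subgroup.mem_centralizer_singleton_iff]
      constructor
      · intro h
        have h1 : y * (a : H) * y⁻¹ * (a : H)⁻¹ = 1 := congrArg Subtype.val h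
        rw [mul_inv_eq_one, mul_inv_eq_iff_eq_mul] at h1
        exact ⟨a.2, h1.symm⟩
      · rintro ⟨-, h⟩
        refine Subtype.ext (show y * (a : H) * y⁻¹ * (a : H)⁻¹ = 1 from ?_)
        rw [← h, mul_inv_cancel_right, mul_inv_cancel]
    have hsurj : Function.Surjective φ := by
      haveI : Fact (Nat.card (Subgroup.zpowers z)).Prime := ⟨by rw [Nat.card_zpowers, hzo]; exact hp⟩
      rw [← MonoidHom.range_eq_top]
      refine (Subgroup.eq_bot_or_eq_top_of_prime_card φ.range).resolve_left fun hb => hy ?_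
      have h1 : φ ⟨e0, he0A⟩ = 1 := by
        have : φ ⟨e0, he0A⟩ ∈ φ.range := ⟨_, rfl⟩
        rwa [hb, Subgroup.mem_bot] at this
      have h2 : y * e0 * y⁻¹ * e0⁻¹ = 1 := congrArg Subtype.val h1
      rw [mul_inv_eq_one, mul_inv_eq_iff_eq_mul] at h2
      exact h2
    have hcardA : Nat.card A = p * Nat.card A' := by
      have h1 := Subgroup.card_eq_card_quotient_mul_card_subgroup φ.ker
      rwa [Nat.card_congr (QuotientGroup.quotientKerEquivOfSurjective φ hsurj).toEquiv, Nat.card_zpowers,
        hzo, hker, Nat.card_congr (Subgroup.subgroupOfEquivOfLe hA'A).toEquiv] at h1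
    obtain ⟨⟨e, heA⟩, he⟩ := hsurj ⟨z, Subgroup.mem_zpowers z⟩
    have hey : y * e * y⁻¹ = z * e := by
      have : y * e * y⁻¹ * e⁻¹ = z := congrArg Subtype.val he
      rwa [mul_inv_eq_iff_eq_mul] at this
    obtain ⟨ι', hι', U', hcard', hne', hind', hinv'⟩ := ih A' (by
      have := Nat.card_pos (α := A')
      have := hp.two_le
      nlinarith) (hA'A.trans hAP) hzA' (fun a ha b hb => hAc a (hA'A ha) b (hA'A hb))
      (fun a ha => hAp a (hA'A ha)) (fun a ha => hcomm a (hA'A ha)) (fun a ha => hcen a (hA'A ha)) hPz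
    -- the eigen-elements
    have hze : Commute z e := hAc z hzA e heA
    have hyU : ∀ (k : ℤ) i, ∀ u ∈ U' i, y ^ k • u ∈ U' i := fun k i u hu =>
      hinv' (y ^ k) (fun a ha => (hA'y a ha).zpow_left k) i u hu
    have heU : ∀ (m : ℕ) i, ∀ u ∈ U' i, (z ^ m * e) • u ∈ U' i := fun m i u hu =>
      hinv' _ (fun a ha => hAc _ (mul_mem (pow_mem hzA m) heA) a (hA'A ha)) i u hu
    have hyconj : ∀ k : ℕ, y ^ k * e * (y ^ k)⁻¹ = z ^ k * e := by
      intro k
      induction k with
      | zero => simp
      | succ k ihk =>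
        rw [pow_succ', mul_inv_rev, show y * y ^ k * e * ((y ^ k)⁻¹ * y⁻¹) = y * (y ^ k * e * (y ^ k)⁻¹) * y⁻¹ by
          group, ihk, show y * (z ^ k * e) * y⁻¹ = (y * z ^ k) * e * y⁻¹ by group,
          ((hPz y hyP).pow_right k).eq, show z ^ k * y * e * y⁻¹ = z ^ k * (y * e * y⁻¹) by group, hey,
          ← mul_assoc, ← pow_succ, pow_succ']
    let ee : Fin p → H := fun k => z ^ (k : ℕ) * e
    have heep : ∀ k, ee k ^ p = 1 := fun k => by
      rw [(hze.pow_left (k : ℕ)).mul_pow, ← pow_mul, mul_comm (k : ℕ) p, pow_mul, hzp, one_pow, hAp e heA, one_mul]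
    let U : ι' × Fin p → AddSubgroup V := fun ik =>
      { carrier := {u | u ∈ U' ik.1 ∧ ee ik.2 • u = u}
        zero_mem' := ⟨zero_mem _, smul_zero _⟩
        add_mem' := fun {a b} ha hb => ⟨add_mem ha.1 hb.1, by rw [smul_add, ha.2, hb.2]⟩
        neg_mem' := fun {a} ha => ⟨neg_mem ha.1, by rw [smul_neg, ha.2]⟩ }
    have hzsum : ∀ (m : ℕ), ¬ p ∣ m → ∀ v : V, ∑ i ∈ Finset.range p, (z ^ (i * m)) • v = 0 := by
      intro m hm v
      have hshift : z ^ m • ∑ i ∈ Finset.range p, (z ^ (i * m)) • v = ∑ i ∈ Finset.range p, (z ^ (i * m)) • v := by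
        rw [Finset.smul_sum]
        simp only [← mul_smul, ← pow_add]
        have h1 := Finset.sum_range_succ' (fun i => (z ^ (i * m)) • v) p
        have h2 := Finset.sum_range_succ (fun i => (z ^ (i * m)) • v) p
        rw [h2, mul_comm p m, pow_mul', hzp, one_pow, Nat.zero_mul, pow_zero] at h1
        simp only [Nat.succ_mul] at h1
        rw [add_right_cancel_iff] at h1
        rw [h1]
        exact Finset.sum_congr rfl fun i _ => by rw [add_comm]
      obtain ⟨c, -, hc⟩ := Nat.exists_mul_mod_eq_one_of_coprime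
        (hp.coprime_iff_not_dvd.2 hm).symm hp.one_lt
      refine hfix _ ?_
      have h3 : ∀ k : ℕ, (z ^ m) ^ k • ∑ i ∈ Finset.range p, (z ^ (i * m)) • v =
          ∑ i ∈ Finset.range p, (z ^ (i * m)) • v := by
        intro k
        induction k with
        | zero => simp
        | succ k ihk => rw [pow_succ, mul_smul, hshift, ihk]
      have h4 : (z ^ m) ^ c = z := by
        rw [← pow_mul, pow_eq_pow_mod _ hzp, hc, pow_one]
      have h5 := h3 c
      rwa [h4] at h5
    refine ⟨ι' × Fin p, inferInstance, U, ?_, ?_, ?_, ?_⟩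
    · rw [Fintype.card_prod, Fintype.card_fin, hcardA, ← hcard']; ring
    · rintro ⟨i, k⟩ hbot
      -- every other eigenspace vanishes, hence the whole piece
      have hzero : ∀ (k' : Fin p), ∀ u ∈ U' i, ee k' • u = u → u = 0 := by
        intro k' u hu hfu
        have h1 : (y ^ ((k : ℤ) - k')) • u ∈ U (i, k) := by
          refine ⟨hyU _ i u hu, ?_⟩
          show ee k • y ^ ((k : ℤ) - k') • u = y ^ ((k : ℤ) - k') • u
          have h2 : ee k * y ^ ((k : ℤ) - k') = y ^ ((k : ℤ) - k') * ee k' := by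
            show z ^ (k : ℕ) * e * y ^ ((k : ℤ) - k') = y ^ ((k : ℤ) - k') * (z ^ (k' : ℕ) * e)
            rw [← hyconj k, ← hyconj k', zpow_sub, zpow_natCast, zpow_natCast]
            group
          rw [← mul_smul, h2, mul_smul, hfu]
        rw [hbot, AddSubgroup.mem_bot, smul_eq_zero_iff_eq] at h1
        exact h1
      apply hne' i
      rw [AddSubgroup.eq_bot_iff_forall]
      intro u hu
      have h1 : ∀ k' : Fin p, ∑ j ∈ Finset.range p, (ee k' ^ j) • u = 0 := fun k' => by
        refine hzero k' _ ((U' i).sum_mem fun j _ => ?_) ?_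
        · refine hinv' _ (fun a ha => (Commute.pow_left (hAc _ (mul_mem (pow_mem hzA _) heA) a (hA'A ha)) j)) i u hu
        · rw [Finset.smul_sum]
          simp only [← mul_smul, ← pow_succ']
          have h2 := Finset.sum_range_succ' (fun j => (ee k' ^ j) • u) p
          have h3 := Finset.sum_range_succ (fun j => (ee k' ^ j) • u) p
          rw [h3, heep, pow_zero, add_right_cancel_iff] at h2
          exact h2.symm
      have h2 : ∑ k' : Fin p, ∑ j ∈ Finset.range p, (ee k' ^ j) • u = p • u := by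
        rw [Finset.sum_comm, Finset.sum_eq_single 0]
        · simp
        · intro j hj hj0
          rw [Finset.mem_range] at hj
          have hnd : ¬ p ∣ j := fun hd => absurd (Nat.le_of_dvd (Nat.pos_of_ne_zero hj0) hd) (by omega)
          have h3 : ∀ k' : Fin p, (ee k' ^ j) • u = (z ^ ((k' : ℕ) * j)) • (e ^ j • u) := fun k' => by
            rw [← mul_smul, pow_mul, ← (hze.pow_left (k' : ℕ)).mul_pow]
          rw [Finset.sum_congr rfl fun k' _ => h3 k', Fin.sum_univ_eq_sum_range
            (fun k' => (z ^ (k' * j)) • (e ^ j • u)) p]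
          exact hzsum j hnd _
        · intro h; exact absurd (Finset.mem_range.2 hp.pos) h
      simp only [h1, Finset.sum_const_zero] at h2
      exact eq_zero_of_coprime hV h2.symm
    · intro u hu hsum
      have h1 := hind' (fun i => ∑ k, u (i, k)) (fun i => (U' i).sum_mem fun k _ => (hu (i, k)).1)
        (by rw [← hsum, Fintype.sum_prod_type])
      rintro ⟨i, k⟩
      have h2 := congrArg (fun v => ∑ j ∈ Finset.range p, (ee k ^ j) • v) (h1 i)
      simp only [smul_zero, Finset.sum_const_zero, Finset.smul_sum] at h2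
      rw [Finset.sum_comm, Finset.sum_eq_single k] at h2
      · have hfx : ∀ j, (ee k ^ j) • u (i, k) = u (i, k) := fun j => by
          induction j with
          | zero => simp
          | succ j ihj => rw [pow_succ, mul_smul, (hu (i, k)).2, ihj]
        simp only [hfx, Finset.sum_const, Finset.card_range] at h2
        exact eq_zero_of_coprime hV h2
      · intro k' _ hk'
        obtain ⟨m, hm, hnd⟩ : ∃ m : ℕ, ee k = z ^ m * ee k' ∧ ¬ p ∣ m := by
          refine ⟨(k : ℕ) + p - k', ?_, fun hd => hk' (Fin.ext ?_)⟩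
          · show z ^ (k : ℕ) * e = z ^ ((k : ℕ) + p - k') * (z ^ (k' : ℕ) * e)
            rw [← mul_assoc, ← pow_add, Nat.sub_add_cancel (by omega), pow_add, hzp, mul_one]
          · obtain ⟨c, hc⟩ := hd
            have hk := k.2
            have hk2 := k'.2
            have hc2 : c < 2 := by
              by_contra hc2
              have : p * 2 ≤ p * c := Nat.mul_le_mul_left p (by omega)
              omega
            interval_cases c <;> omega
        have hfx : ∀ j, (ee k ^ j) • u (i, k') = (z ^ (j * m)) • u (i, k') := fun j => by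
          have h4 : ∀ j, (ee k' ^ j) • u (i, k') = u (i, k') := fun j => by
            induction j with
            | zero => simp
            | succ j ihj => rw [pow_succ, mul_smul, (hu (i, k')).2, ihj]
          rw [hm, (Commute.mul_right ((Commute.refl z).pow_pow m (k' : ℕ)) (hze.pow_left m)).mul_pow,
            mul_smul, h4, ← pow_mul, mul_comm]
        rw [Finset.sum_congr rfl fun j _ => hfx j]
        exact hzsum m hnd _
      · intro h; exact absurd (Finset.mem_univ k) h
    · rintro g hg ⟨i, k⟩ u ⟨hu, hfu⟩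
      refine ⟨hinv' g (fun a ha => hg a (hA'A ha)) i u hu, ?_⟩
      show ee k • g • u = g • u
      rw [← mul_smul, ← (hg _ (mul_mem (pow_mem hzA k) heA)).eq, mul_smul, hfu]

end Cfsg.Agent.Solv.ClassLower
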