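import Cfsg.Agent.Lib.Solv.OddPair.Basic
import Cfsg.Agent.Lib.Solv.Triple.Rigid
import Cfsg.Agent.Lib.Solv.Kulakoff
import Cfsg.Agent.Lib.Solv.ClassLower.Gens
import Cfsg.Agent.Lib.Solv.ClassLower.Split

/-!
Many orbits when a normal nonabelian `p`-subgroup moves every vector by its derived group.
-/

set_option autoImplicit false
set_option linter.unusedSectionVars false
set_option linter.style.haveILetI false
set_option maxHeartbeats 800000

namespace Cfsg.Agent.Solv.ClassLower

open Cfsg.Agent.Solv.OddPair (kerV mem_kerV quotAct quot_smul quot_faithful subAct)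
open scoped Pointwise

universe u v

theorem exp_bound {p l : ℕ} (h7 : 7 * (l + 1) ≤ p) (hp : 7 ≤ p) : ∀ a : ℕ, 1 ≤ a →
    (l + 1) * (4 * a ^ 2 + 2 * a + 1) ≤ p ^ a := by
  intro a ha
  induction a, ha using Nat.le_induction with
  | base => rw [pow_one]; omega
  | succ a ha ih =>
    have h1 : 4 * (a + 1) ^ 2 + 2 * (a + 1) + 1 ≤ 7 * (4 * a ^ 2 + 2 * a + 1) := by nlinarith
    calc (l + 1) * (4 * (a + 1) ^ 2 + 2 * (a + 1) + 1) ≤ (l + 1) * (4 * a ^ 2 + 2 * a + 1) * p := by
          rw [mul_assoc]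
          exact Nat.mul_le_mul_left _ (h1.trans (by rw [mul_comm _ p]; exact Nat.mul_le_mul_right _ hp))
      _ ≤ p ^ (a + 1) := by rw [pow_succ]; exact Nat.mul_le_mul_right _ ih

/-- Orbits of a quotient by the kernel. -/
theorem card_orbits_quot {H : Type u} {V : Type v} [Group H] [AddCommGroup V] [Finite V]
    [DistribMulAction H V] :
    letI := quotAct (A := H) (V := V)
    Nat.card (MulAction.orbitRel.Quotient (H ⧸ kerV H V) V) ≤
      Nat.card (MulAction.orbitRel.Quotient H V) := by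
  letI := quotAct (A := H) (V := V)
  haveI : Finite (MulAction.orbitRel.Quotient H V) := Quotient.finite _
  refine Nat.card_le_card_of_surjective (Quotient.map' id fun a b hab => ?_) ?_
  · obtain ⟨g, hg⟩ := MulAction.orbitRel_apply.1 hab
    exact MulAction.orbitRel_apply.2 ⟨(g : H ⧸ kerV H V), hg⟩
  · rintro ⟨a⟩
    exact ⟨Quotient.mk'' a, rfl⟩

/-- Orbits on an invariant subgroup of a stabiliser, when meeting elements stay in it. -/
theorem card_orbits_sub {H : Type u} {V : Type v} [Group H] [AddCommGroup V] [Finite V]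
    [DistribMulAction H V] (H1 : Subgroup H) (U : AddSubgroup V)
    (hU : ∀ h : H1, ∀ x ∈ U, h • x ∈ U)
    (hmeet : ∀ h : H, ∀ x ∈ U, x ≠ 0 → h • x ∈ U → h ∈ H1) :
    letI := subAct U hU
    Nat.card (MulAction.orbitRel.Quotient H1 U) ≤ Nat.card (MulAction.orbitRel.Quotient H V) := by
  letI := subAct U hU
  haveI : Finite (MulAction.orbitRel.Quotient H V) := Quotient.finite _
  refine Nat.card_le_card_of_injective (Quotient.map' (fun x : U => (x : V)) fun a b hab => ?_) ?_
  · obtain ⟨g, hg⟩ := MulAction.orbitRel_apply.1 hab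
    exact MulAction.orbitRel_apply.2 ⟨(g : H), congrArg Subtype.val hg⟩
  · rintro ⟨a⟩ ⟨b⟩ hab
    obtain ⟨g, hg⟩ := MulAction.orbitRel_apply.1 (Quotient.exact' hab)
    refine Quotient.sound' (MulAction.orbitRel_apply.2 ?_)
    by_cases hb : b = 0
    · subst hb
      refine ⟨1, Subtype.ext ?_⟩
      simp only [ZeroMemClass.coe_zero, smul_zero] at hg
      show ((1 : H1) : H) • ((0 : U) : V) = (a : V)
      rw [ZeroMemClass.coe_zero, smul_zero]
      exact hg
    · refine ⟨⟨g, hmeet g b b.2 (fun h => hb (Subtype.ext h)) ?_⟩, Subtype.ext hg⟩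
      simp only at hg
      rw [hg]
      exact a.2

/-- The induction hypothesis. -/
def NonabBelow (p l n : ℕ) : Prop :=
  ∀ (H : Type u) (V : Type v) [Group H] [Finite H] [AddCommGroup V] [Finite V]
    [Nontrivial V] [DistribMulAction H V], Nat.card V ≤ n → (Nat.card V).Coprime p →
    ∀ P : Subgroup H, P.Normal → IsPGroup p P →
    (∀ v : V, (∀ c ∈ ⁅P, P⁆, c • v = v) → v = 0) →
    p ≤ 3 * l * Nat.card (MulAction.orbitRel.Quotient H V)

/-- The faithful irreducible step. -/
theorem nonab_step {p l : ℕ} [Fact p.Prime] (hp2 : p ≠ 2) (hp : p < 2 ^ (l + 1))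
    (h7 : 7 * (l + 1) ≤ p) (hl : 1 ≤ l) (n : ℕ) (ih : NonabBelow.{u, v} p l n)
    {H : Type u} {V : Type v} [Group H] [Finite H] [AddCommGroup V] [Finite V] [Nontrivial V]
    [DistribMulAction H V] (hn : Nat.card V ≤ n + 1) (hcop : (Nat.card V).Coprime p)
    (P : Subgroup H) [hPn : P.Normal] (hP : IsPGroup p P)
    (hder : ∀ v : V, (∀ c ∈ ⁅P, P⁆, c • v = v) → v = 0)
    (hf : ∀ a : H, (∀ x : V, a • x = x) → a = 1)
    (hirr : ∀ U : AddSubgroup V, (∀ a : H, ∀ x ∈ U, a • x ∈ U) → U = ⊥ ∨ U = ⊤) :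
    p ≤ 3 * l * Nat.card (MulAction.orbitRel.Quotient H V) := by
  classical
  have hpp := (Fact.out : p.Prime)
  -- central elements of order dividing p
  let Ω : Subgroup H :=
    { carrier := {w | w ∈ P ∧ w ^ p = 1 ∧ ∀ y ∈ P, Commute y w}
      one_mem' := ⟨one_mem P, one_pow p, fun y _ => Commute.one_right y⟩
      mul_mem' := fun {a b} ha hb => ⟨mul_mem ha.1 hb.1,
        by rw [(hb.2.2 a ha.1).mul_pow, ha.2.1, hb.2.1, one_mul],
        fun y hy => (ha.2.2 y hy).mul_right (hb.2.2 y hy)⟩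
      inv_mem' := fun {a} ha => ⟨inv_mem ha.1, by rw [inv_pow, ha.2.1, inv_one],
        fun y hy => (ha.2.2 y hy).inv_right⟩ }
  have hΩP : Ω ≤ P := fun w hw => hw.1
  have hΩn : Ω.Normal := ⟨fun w hw g => by
    refine ⟨hPn.conj_mem w hw.1 g, by rw [conj_pow, hw.2.1, mul_one, mul_inv_cancel], fun y hy => ?_⟩
    have hy' : g⁻¹ * y * g ∈ P := by simpa using hPn.conj_mem y hy g⁻¹
    have := (Commute.map (hw.2.2 _ hy') (MulAut.conj g).toMonoidHom)
    simpa [MulAut.conj_apply, mul_assoc] using this⟩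
  have hPne : P ≠ ⊥ := fun hb => by
    obtain ⟨v, hv⟩ := exists_ne (0 : V)
    refine hv (hder v fun c hc => ?_)
    rw [hb, Subgroup.commutator_bot_left, Subgroup.mem_bot] at hc
    rw [hc, one_smul]
  by_cases hsemi : ∀ w ∈ Ω, w ≠ 1 → ∀ v : V, w • v = v → v = 0
  swap
  · -- a vector stabiliser in `Ω` that is maximal
    push Not at hsemi
    obtain ⟨w, hw, hw1, v₀, hv₀, hv₀0⟩ := hsemi
    let st : V → Subgroup H := fun v => Ω ⊓ MulAction.stabilizer H v
    haveI : Nonempty {v : V // v ≠ 0} := ⟨⟨v₀, hv₀0⟩⟩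
    obtain ⟨⟨v₁, hv₁⟩, hmax⟩ := Finite.exists_max fun v : {v : V // v ≠ 0} => Nat.card (st v)
    obtain ⟨K, hK⟩ : ∃ K, K = st v₁ := ⟨_, rfl⟩
    have hK1 : K ≠ ⊥ := by
      intro hb
      have h1 : Nat.card (st v₀) ≤ 1 := by
        have := hmax ⟨v₀, hv₀0⟩
        rw [← hK, hb, Subgroup.card_bot] at this
        exact this
      have hmem : w ∈ st v₀ := Subgroup.mem_inf.2 ⟨hw, hv₀⟩
      rw [Subgroup.eq_bot_of_card_le _ h1, Subgroup.mem_bot] at hmem
      exact hw1 hmem
    let U : AddSubgroup V :=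
      { carrier := {v | ∀ k ∈ K, k • v = v}
        zero_mem' := fun k _ => smul_zero k
        add_mem' := fun {a b} ha hb k hk => by rw [smul_add, ha k hk, hb k hk]
        neg_mem' := fun {a} ha k hk => by rw [smul_neg, ha k hk] }
    have hst : ∀ v ∈ U, v ≠ 0 → st v = K := fun v hv hv0 => by
      have hle : K ≤ st v := fun k hk => Subgroup.mem_inf.2 ⟨(hK.le hk).1, hv k hk⟩
      exact (Subgroup.eq_of_le_of_card_ge hle (hK ▸ hmax ⟨v, hv0⟩)).symm
    obtain ⟨H1, hH1⟩ : ∃ H1, H1 = Subgroup.normalizer (K : Set H) := ⟨_, rfl⟩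
    have hU : ∀ h : H1, ∀ x ∈ U, h • x ∈ U := by
      intro h x hx k hk
      have hh : (h : H) ∈ Subgroup.normalizer (K : Set H) := hH1 ▸ h.2
      have h1 := hx _ ((Subgroup.mem_normalizer_iff.1 (inv_mem hh) k).1 hk)
      rw [inv_inv, mul_smul, mul_smul, inv_smul_eq_iff] at h1
      exact h1
    have hmeet : ∀ h : H, ∀ x ∈ U, x ≠ 0 → h • x ∈ U → h ∈ H1 := by
      intro h x hx hx0 hhx
      have e1 := hst x hx hx0
      have e2 := hst _ hhx (fun e => hx0 ((smul_eq_zero_iff_eq h).1 e))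
      rw [hH1, Subgroup.mem_normalizer_iff]
      intro k
      show k ∈ K ↔ h * k * h⁻¹ ∈ K
      conv_lhs => rw [← e1]
      rw [← e2]
      simp only [st, Subgroup.mem_inf, MulAction.mem_stabilizer_iff, mul_smul, inv_smul_smul]
      refine and_congr ⟨fun hk => hΩn.conj_mem k hk h, fun hk => ?_⟩ (smul_left_cancel_iff h).symm
      have := hΩn.conj_mem _ hk h⁻¹
      simpa [mul_assoc] using this
    have hU0 : U ≠ ⊥ := fun hb => hv₁ ((AddSubgroup.eq_bot_iff_forall U).1 hb v₁ fun k hk => (hK.le hk).2)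
    have hU1 : U ≠ ⊤ := fun ht => by
      refine hK1 ((Subgroup.eq_bot_iff_forall K).2 fun k hk => hf k fun x => ?_)
      exact (ht.symm ▸ AddSubgroup.mem_top x : x ∈ U) k hk
    have hlt : Nat.card U < Nat.card V :=
      lt_of_le_of_ne (Finite.card_subtype_le _) fun h => hU1 (AddSubgroup.eq_top_of_card_eq _ h)
    haveI : Nontrivial U := (AddSubgroup.nontrivial_iff_ne_bot U).2 hU0
    have hPH1 : P ≤ H1 := by
      intro y hy
      rw [hH1, Subgroup.mem_normalizer_iff]
      intro k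
      constructor
      · intro hk
        rw [((hK.le hk).1.2.2 y hy).eq, mul_inv_cancel_right]
        exact hk
      · intro hk
        obtain ⟨k', hk'⟩ : ∃ k', k' = y * k * y⁻¹ := ⟨_, rfl⟩
        rw [← hk'] at hk
        have hc := ((hK.le hk).1.2.2 y hy).eq
        have e : k = k' := by
          calc k = y⁻¹ * k' * y := by rw [hk']; group
            _ = y⁻¹ * (y * k') := by rw [mul_assoc, hc]
            _ = k' := by group
        rw [e]
        exact hk
    letI := subAct U hU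
    haveI : (P.subgroupOf H1).Normal := hPn.comap H1.subtype
    have h1 := ih H1 U (by omega)
      (hcop.coprime_dvd_left (AddSubgroup.card_addSubgroup_dvd_card U)) (P.subgroupOf H1)
      inferInstance (hP.of_equiv (Subgroup.subgroupOfEquivOfLe hPH1).symm) fun v hv => by
        refine Subtype.ext (hder v fun c hc => ?_)
        have hmap := Subgroup.map_commutator (P.subgroupOf H1) (P.subgroupOf H1) H1.subtype
        rw [Subgroup.map_subgroupOf_eq_of_le hPH1] at hmap
        rw [← hmap] at hc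
        obtain ⟨d, hd, rfl⟩ := hc
        exact congrArg Subtype.val (hv d hd)
    exact h1.trans (Nat.mul_le_mul_left _ (card_orbits_sub H1 U hU hmeet))
  -- semiregular: `Ω` has order p
  haveI : Nontrivial P := (Subgroup.nontrivial_iff_ne_bot P).2 hPne
  haveI := hP.center_nontrivial
  obtain ⟨z, hz, hz1⟩ : ∃ z ∈ Ω, z ≠ 1 := by
    obtain ⟨⟨z, hzc⟩, hz1⟩ := exists_ne (1 : Subgroup.center P)
    obtain ⟨k, hk⟩ := hP z
    have hex : ∃ k, z ^ p ^ k = 1 := ⟨k, hk⟩
    have hk0 : Nat.find hex ≠ 0 := fun h0 => hz1 (Subtype.ext (by simpa [h0] using Nat.find_spec hex))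
    obtain ⟨m, hm⟩ := Nat.exists_eq_succ_of_ne_zero hk0
    refine ⟨((z ^ p ^ m : P) : H), ⟨(z ^ p ^ m).2, ?_, fun y hy => ?_⟩, fun h => ?_⟩
    · have h1 := Nat.find_spec hex
      rw [hm, Nat.succ_eq_add_one, pow_succ, pow_mul] at h1
      exact congrArg Subtype.val h1
    · exact congrArg Subtype.val (Subgroup.mem_center_iff.1 (pow_mem hzc _) ⟨y, hy⟩)
    · exact Nat.find_min hex (by omega) (Subtype.ext h)
  obtain ⟨hzP, hzp, hzc⟩ := hz
  have hzo : orderOf z = p := orderOf_eq_prime hzp hz1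
  have hzfix : ∀ v : V, z • v = v → v = 0 := hsemi z ⟨hzP, hzp, hzc⟩ hz1
  have hpow0 : ∀ g ∈ Ω, g ≠ 1 → ∀ u : V, ∑ j ∈ Finset.range p, g ^ j • u = 0 := by
    intro g hg hg1 u
    refine hsemi g hg hg1 _ ?_
    rw [Finset.smul_sum]
    simp only [← mul_smul, ← pow_succ']
    have h2 := Finset.sum_range_succ' (fun j => g ^ j • u) p
    have h3 := Finset.sum_range_succ (fun j => g ^ j • u) p
    rw [h3, hg.2.1, pow_zero, add_right_cancel_iff] at h2
    exact h2.symm
  have hΩz : ∀ w ∈ Ω, w ∈ Subgroup.zpowers z := by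
    intro w hw
    by_contra hwz
    obtain ⟨v, hv⟩ := exists_ne (0 : V)
    have hzw : Commute z w := hw.2.2 z hzP
    have h1 : ∀ k : ℕ, ∑ j ∈ Finset.range p, (z ^ k * w) ^ j • v = 0 := fun k => by
      refine hpow0 _ (mul_mem (pow_mem (show z ∈ Ω from ⟨hzP, hzp, hzc⟩) k) hw) (fun e => hwz ?_) v
      rw [(mul_eq_one_iff_eq_inv'.1 e)]
      exact inv_mem (Subgroup.pow_mem _ (Subgroup.mem_zpowers z) k)
    have h2 : ∑ k ∈ Finset.range p, ∑ j ∈ Finset.range p, (z ^ k * w) ^ j • v = p • v := by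
      rw [Finset.sum_comm, Finset.sum_eq_single 0]
      · simp
      · intro j hj hj0
        rw [Finset.mem_range] at hj
        have hzj : (z ^ j) ≠ 1 := fun e => by
          have h4 := Nat.le_of_dvd (Nat.pos_of_ne_zero hj0) (hzo ▸ orderOf_dvd_of_pow_eq_one e)
          omega
        have h3 := hpow0 (z ^ j) (pow_mem (show z ∈ Ω from ⟨hzP, hzp, hzc⟩) j) hzj (w ^ j • v)
        rw [← h3]
        refine Finset.sum_congr rfl fun k _ => ?_
        rw [(hzw.pow_left k).mul_pow, mul_smul, ← pow_mul, ← pow_mul, mul_comm k j]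
      · intro h; exact absurd (Finset.mem_range.2 hpp.pos) h
    rw [Finset.sum_eq_zero fun k _ => h1 k] at h2
    exact hv (eq_zero_of_coprime hcop h2.symm)
  have hzn : (Subgroup.zpowers z).Normal := by
    have : Subgroup.zpowers z = Ω :=
      le_antisymm (Subgroup.zpowers_le.2 ⟨hzP, hzp, hzc⟩) hΩz
    rw [this]; exact hΩn
  have hzcomm : ∀ c ∈ Subgroup.zpowers z, ∀ y ∈ P, Commute y c := fun c hc y hy => by
    obtain ⟨i, rfl⟩ := hc
    exact (hzc y hy).zpow_right i
  -- the layer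
  let E : Subgroup H :=
    { carrier := {e | e ∈ P ∧ e ^ p = 1 ∧ ∀ y ∈ P, y * e * y⁻¹ * e⁻¹ ∈ Subgroup.zpowers z}
      one_mem' := ⟨one_mem P, one_pow p, fun y _ => by simp⟩
      mul_mem' := fun {a b} ha hb => by
        refine ⟨mul_mem ha.1 hb.1, ?_, fun y hy => ?_⟩
        · obtain ⟨c, hc⟩ : ∃ c, c = b * a * b⁻¹ * a⁻¹ := ⟨_, rfl⟩
          have hcz : c ∈ Subgroup.zpowers z := hc ▸ ha.2.2 b hb.1
          have hba : b * a = c * a * b := by rw [hc]; group
          rw [Triple.mul_pow_of_central hba (hzcomm c hcz a ha.1).symm (hzcomm c hcz b hb.1).symm,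
            ha.2.1, hb.2.1, mul_one, mul_one]
          obtain ⟨d, hd⟩ := hpp.dvd_choose_self (k := 2) two_ne_zero
            (lt_of_le_of_ne hpp.two_le (Ne.symm hp2))
          obtain ⟨i, hi⟩ := hcz
          rw [hd, pow_mul, ← hi, ← zpow_natCast (z ^ i), ← zpow_mul, mul_comm, zpow_mul, zpow_natCast, hzp,
            one_zpow, one_pow]
        · have e : y * (a * b) * y⁻¹ * (a * b)⁻¹ =
              (y * a * y⁻¹ * a⁻¹) * (a * (y * b * y⁻¹ * b⁻¹) * a⁻¹) := by group
          rw [e, (hzcomm _ (hb.2.2 y hy) a ha.1).eq, mul_inv_cancel_right]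
          exact mul_mem (ha.2.2 y hy) (hb.2.2 y hy)
      inv_mem' := fun {a} ha => by
        refine ⟨inv_mem ha.1, by rw [inv_pow, ha.2.1, inv_one], fun y hy => ?_⟩
        have e : y * a⁻¹ * y⁻¹ * a⁻¹⁻¹ = a⁻¹ * (y * a * y⁻¹ * a⁻¹)⁻¹ * a := by group
        rw [e, (hzcomm _ (inv_mem (ha.2.2 y hy)) a⁻¹ (inv_mem ha.1)).eq, inv_mul_cancel_right]
        exact inv_mem (ha.2.2 y hy) }
  have hEP : E ≤ P := fun e he => he.1
  haveI hEn : E.Normal := ⟨fun e he g => by
    refine ⟨hPn.conj_mem e he.1 g, by rw [conj_pow, he.2.1, mul_one, mul_inv_cancel], fun y hy => ?_⟩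
    have hy' : g⁻¹ * y * g ∈ P := by simpa using hPn.conj_mem y hy g⁻¹
    have := hzn.conj_mem _ (he.2.2 _ hy') g
    simpa [mul_assoc] using this⟩
  have hzE : z ∈ E := ⟨hzP, hzp, fun y hy => by
    rw [(hzc y hy).eq, mul_inv_cancel_right, mul_inv_cancel]; exact one_mem _⟩
  -- an element of the layer outside the centre
  obtain ⟨f, hfE, hfz⟩ : ∃ f ∈ E, f ∉ Subgroup.zpowers z := by
    have hnc : ¬ IsCyclic P := by
      intro hc
      obtain ⟨v, hv⟩ := exists_ne (0 : V)
      refine hv (hder v fun c hc' => ?_)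
      haveI := hc
      have : ⁅P, P⁆ = ⊥ := by
        rw [Subgroup.commutator_eq_bot_iff_le_centralizer]
        intro a ha
        rw [Subgroup.mem_centralizer_iff]
        intro b hb
        exact congrArg Subtype.val (IsCyclic.isMulCommutative.is_comm.comm (⟨b, hb⟩ : P) ⟨a, ha⟩)
      rw [this, Subgroup.mem_bot] at hc'
      rw [hc', one_smul]
    obtain ⟨F, hFn, hFe, hFc⟩ := Cfsg.Agent.Solv.exists_normal_elementary_sq hp2 hP hnc
    haveI := hFn
    have hFne : F ≠ ⊥ := fun h => by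
      rw [h, Subgroup.card_bot] at hFc
      have := one_lt_pow₀ hpp.one_lt two_ne_zero
      omega
    obtain ⟨z', hz'F, hz'c, hz'o⟩ := Cfsg.Agent.Solv.exists_central_order hP F hFne
    have hz'Ω : (z' : H) ∈ Ω := ⟨z'.2, by
      rw [← SubmonoidClass.coe_pow, ← hz'o, pow_orderOf_eq_one]; rfl,
      fun y hy => congrArg Subtype.val (Subgroup.mem_center_iff.1 hz'c ⟨y, hy⟩)⟩
    obtain ⟨x, hxF, hxz⟩ : ∃ x ∈ F, (x : H) ∉ Subgroup.zpowers z := by
      by_contra hall
      push Not at hall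
      have h1 : Nat.card F ≤ Nat.card (Subgroup.zpowers z) := by
        refine Nat.card_le_card_of_injective (fun x : F => (⟨((x : P) : H), hall x x.2⟩ : Subgroup.zpowers z)) ?_
        intro a b e
        exact Subtype.ext (Subtype.ext (congrArg (Subtype.val : Subgroup.zpowers z → H) e))
      rw [hFc, Nat.card_zpowers, hzo, pow_two] at h1
      have := hpp.two_le
      nlinarith
    refine ⟨x, ⟨x.2, by rw [← SubmonoidClass.coe_pow, hFe.2 x hxF]; rfl, fun y hy => ?_⟩, hxz⟩
    -- the quotient of `F` by the centre has order p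
    have hzz : z ∈ Subgroup.zpowers ((z' : P) : H) := by
      have hz'z := hΩz _ hz'Ω
      have : Subgroup.zpowers ((z' : P) : H) = Subgroup.zpowers z :=
        Subgroup.eq_of_le_of_card_ge (Subgroup.zpowers_le.2 hz'z)
          (by rw [Nat.card_zpowers, Nat.card_zpowers, hzo, Subgroup.orderOf_coe, hz'o])
      rw [this]; exact Subgroup.mem_zpowers z
    obtain ⟨zc, hzcF, hzcz⟩ : ∃ zc : P, zc ∈ F ∧ (zc : H) = z := by
      obtain ⟨i, hi⟩ := hzz
      exact ⟨z' ^ i, F.zpow_mem hz'F i, by simpa using hi⟩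
    let Z : Subgroup P := Subgroup.zpowers zc
    have hZc : Z ≤ Subgroup.center P := Subgroup.zpowers_le.2 (Subgroup.mem_center_iff.2 fun w =>
      Subtype.ext (by simp only [Subgroup.coe_mul, hzcz]; exact (hzc w w.2).eq))
    haveI : Z.Normal := ⟨fun a ha g => by
      rw [Subgroup.mem_center_iff.1 (hZc ha) g, mul_inv_cancel_right]; exact ha⟩
    obtain ⟨w, hwF, hwc, hwo⟩ := Cfsg.Agent.Solv.exists_central_order (hP.to_quotient Z)
      (F.map (QuotientGroup.mk' Z)) (by
        rw [Ne, Subgroup.map_eq_bot_iff, QuotientGroup.ker_mk']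
        intro hle
        refine hxz ?_
        obtain ⟨i, hi⟩ := hle hxF
        exact ⟨i, by rw [← hzcz, ← hi]; simp⟩)
    haveI := hFn.map (QuotientGroup.mk' Z) (QuotientGroup.mk'_surjective Z)
    have hcard : Nat.card (F.map (QuotientGroup.mk' Z)) ≤ p := by
      have h1 := Cfsg.Agent.Solv.card_map_mk'_mul_card_inf Z F
      rw [inf_eq_left.2 (Subgroup.zpowers_le.2 hzcF : Z ≤ F), hFc, Nat.card_zpowers,
        ← Subgroup.orderOf_coe, hzcz, hzo, pow_two] at h1
      exact (Nat.eq_of_mul_eq_mul_right hpp.pos h1).le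
    have hall : F.map (QuotientGroup.mk' Z) = Subgroup.zpowers w :=
      (Subgroup.eq_of_le_of_card_ge (Subgroup.zpowers_le.2 hwF) (by rw [Nat.card_zpowers, hwo]; exact hcard)).symm
    obtain ⟨i, hi⟩ : QuotientGroup.mk' Z x ∈ Subgroup.zpowers w := hall.le (Subgroup.mem_map_of_mem _ hxF)
    have hxc : QuotientGroup.mk' Z x ∈ Subgroup.center (P ⧸ Z) := hi ▸ Subgroup.zpow_mem _ hwc i
    have hm : (⟨y, hy⟩ : P) * x * (⟨y, hy⟩ : P)⁻¹ * x⁻¹ ∈ Z := by
      rw [← QuotientGroup.eq_one_iff]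
      show QuotientGroup.mk' Z _ = 1
      rw [map_mul, map_mul, map_mul, map_inv, map_inv, Subgroup.mem_center_iff.1 hxc, mul_inv_cancel_right,
        mul_inv_cancel]
    obtain ⟨j, hj⟩ := hm
    exact ⟨j, by
      have := congrArg Subtype.val hj
      simpa [hzcz] using this⟩
  -- a maximal abelian subgroup of the layer
  let C : Set (Subgroup H) := {A | A ≤ E ∧ z ∈ A ∧ f ∈ A ∧ ∀ a ∈ A, ∀ b ∈ A, Commute a b}
  haveI : Nonempty C := ⟨⟨Subgroup.closure {z, f}, by
    refine (Subgroup.closure_le E).2 ?_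
    rintro g (rfl | rfl)
    exacts [hzE, hfE],
    Subgroup.subset_closure (by simp), Subgroup.subset_closure (by simp), fun a ha b hb => by
      haveI := Subgroup.isMulCommutative_closure (k := ({z, f} : Set H)) (by
        rintro g (rfl | rfl) g' (rfl | rfl)
        exacts [rfl, (hzc _ (hEP hfE)).eq.symm, (hzc _ (hEP hfE)).eq, rfl])
      exact congrArg Subtype.val (mul_comm' (⟨a, ha⟩ : Subgroup.closure ({z, f} : Set H)) ⟨b, hb⟩)⟩⟩
  haveI : Finite (Subgroup H) := Finite.of_injective (fun S => (S : Set H)) SetLike.coe_injective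
  obtain ⟨⟨A, hAE, hzA, hfA, hAc⟩, hAmax⟩ := Finite.exists_max fun A : C => Nat.card (A : Subgroup H)
  have hCA : ∀ e ∈ E, (∀ a ∈ A, Commute e a) → e ∈ A := by
    intro e he hea
    haveI := Subgroup.isMulCommutative_closure (k := (insert e (A : Set H))) (by
      rintro g (rfl | hg) g' (rfl | hg')
      exacts [rfl, (hea g' hg').eq, (hea g hg).eq.symm, (hAc g hg g' hg').eq])
    have hle : Subgroup.closure (insert e (A : Set H)) ≤ E := by
      rw [Subgroup.closure_le]
      rintro g (rfl | hg)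
      exacts [he, hAE hg]
    have hAle : A ≤ Subgroup.closure (insert e (A : Set H)) := fun a ha =>
      Subgroup.subset_closure (Set.mem_insert_of_mem _ ha)
    have := Subgroup.eq_of_le_of_card_ge hAle (hAmax ⟨_, hle, hAle hzA, hAle hfA, fun a ha b hb =>
      congrArg Subtype.val (mul_comm' (⟨a, ha⟩ : Subgroup.closure (insert e (A : Set H))) ⟨b, hb⟩)⟩)
    rw [this]
    exact Subgroup.subset_closure (Set.mem_insert _ _)
  obtain ⟨ι, hι, U, hιcard, hUne, hUind, hUinv⟩ := exists_split hcop P z hzp hzfix _ A le_rfl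
    (hAE.trans hEP) hzA hAc (fun a ha => (hAE ha).2.1) (fun a ha => (hAE ha).2.2)
    (fun a ha hac => hΩz a ⟨hEP (hAE ha), (hAE ha).2.1, hac⟩) (fun y hy => hzc y hy)
  -- orders
  have hEp : IsPGroup p E := hP.to_le hEP
  obtain ⟨m, hm⟩ := IsPGroup.iff_card.1 (hEp.to_le hAE)
  have hzle : Subgroup.zpowers z ≤ A := Subgroup.zpowers_le.2 hzA
  obtain ⟨a, rfl⟩ : ∃ a, m = a + 1 := ⟨m - 1, by
    rcases Nat.eq_zero_or_pos m with rfl | h
    · have := Nat.le_of_dvd Nat.card_pos (Subgroup.card_dvd_of_le hzle)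
      rw [hm, pow_zero, Nat.card_zpowers, hzo] at this
      have := hpp.two_le
      omega
    · omega⟩
  have ha1 : 1 ≤ a := by
    by_contra h0
    have ha0 : a = 0 := by omega
    subst ha0
    refine hfz ?_
    rw [Subgroup.eq_of_le_of_card_ge hzle (by rw [hm, Nat.card_zpowers, hzo, zero_add, pow_one])]
    exact hfA
  have hιa : Fintype.card ι = p ^ a := by
    rw [hm, pow_succ] at hιcard
    exact Nat.eq_of_mul_eq_mul_right hpp.pos hιcard
  -- the layer is small
  obtain ⟨fA, hfA', hAgen⟩ := exists_gens (hEp.to_le hAE) a (Subgroup.zpowers z) hzle (by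
    rw [Nat.card_zpowers, hzo, hm, pow_succ])
  have hEcard : Nat.card E ≤ p ^ (2 * a + 1) := by
    have hcomm : ∀ e : E, ∀ i, (e : H) * fA i * (e : H)⁻¹ * (fA i)⁻¹ ∈ Subgroup.zpowers z := fun e i =>
      (hAE (hfA' i)).2.2 e (hEP e.2)
    let φ : E → Fin a → Subgroup.zpowers z := fun e i => ⟨_, hcomm e i⟩
    have h1 : Nat.card (E ⧸ A.subgroupOf E) ≤ Nat.card (Fin a → Subgroup.zpowers z) := by
      refine Nat.card_le_card_of_injective (fun c => φ c.out) fun c d hcd => ?_
      rw [← Quotient.out_eq' c, ← Quotient.out_eq' d]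
      refine QuotientGroup.eq.2 ?_
      rw [Subgroup.mem_subgroupOf]
      refine hCA _ (Subtype.coe_prop _) fun b hb => ?_
      have hcl : A ≤ Subgroup.centralizer {((c.out⁻¹ * d.out : E) : H)} := by
        refine hAgen.le.trans ?_
        refine sup_le (Subgroup.zpowers_le.2 (Subgroup.mem_centralizer_singleton_iff.2
          (hzc _ (hEP (Subtype.coe_prop _))).eq.symm)) ((Subgroup.closure_le _).2 ?_)
        rintro _ ⟨i, rfl⟩
        refine Subgroup.mem_centralizer_singleton_iff.2 ?_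
        have h2 : (c.out : H) * fA i * (c.out : H)⁻¹ * (fA i)⁻¹ = (d.out : H) * fA i * (d.out : H)⁻¹ * (fA i)⁻¹ :=
          congrArg Subtype.val (congrFun hcd i)
        have h3 := mul_right_cancel h2
        show fA i * ((c.out : H)⁻¹ * d.out) = (c.out : H)⁻¹ * d.out * fA i
        calc fA i * ((c.out : H)⁻¹ * d.out) = (c.out : H)⁻¹ * ((c.out : H) * fA i * (c.out : H)⁻¹) * d.out := by group
          _ = (c.out : H)⁻¹ * d.out * fA i := by rw [h3]; group
      exact (Subgroup.mem_centralizer_singleton_iff.1 (hcl hb)).symm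
    rw [Subgroup.card_eq_card_quotient_mul_card_subgroup (A.subgroupOf E),
      Nat.card_congr (Subgroup.subgroupOfEquivOfLe hAE).toEquiv, hm]
    rw [Nat.card_fun, Nat.card_fin, Nat.card_zpowers, hzo] at h1
    calc _ ≤ p ^ a * p ^ (a + 1) := Nat.mul_le_mul_right _ h1
      _ = p ^ (2 * a + 1) := by rw [← pow_add]; congr 1; omega
  obtain ⟨gen, hgen, hEgen⟩ : ∃ gen : Fin (2 * a) → H, (∀ i, gen i ∈ E) ∧
      E ≤ Subgroup.closure (Set.range gen) := by
    by_cases hab : E ≤ A
    · obtain ⟨g, hg, hge⟩ := exists_gens hEp (2 * a) ⊥ bot_le (by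
        rw [Subgroup.card_bot, mul_one]
        calc Nat.card E ≤ Nat.card A := Nat.le_of_dvd Nat.card_pos (Subgroup.card_dvd_of_le hab)
          _ ≤ p ^ (2 * a) := by rw [hm]; exact Nat.pow_le_pow_right hpp.pos (by omega))
      exact ⟨g, hg, by rw [bot_sup_eq] at hge; exact hge.le⟩
    · obtain ⟨g, hg, hge⟩ := exists_gens hEp (2 * a) (Subgroup.zpowers z) (Subgroup.zpowers_le.2 hzE) (by
        rw [Nat.card_zpowers, hzo, ← pow_succ]
        exact hEcard)
      refine ⟨g, hg, ?_⟩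
      conv_lhs => rw [hge]
      refine sup_le (Subgroup.zpowers_le.2 ?_) le_rfl
      by_contra hzg
      refine hab fun e he => hCA e he fun b hb => ?_
      -- every pair in the layer commutes
      have hcl : ∀ x y, x ∈ E → y ∈ E → x * y * x⁻¹ * y⁻¹ ∈ Subgroup.closure (Set.range g) := by
        intro x y hx hy
        rw [hge] at hx hy
        haveI := hzn
        rw [Subgroup.mem_sup_of_normal_left] at hx hy
        obtain ⟨c, hc, x', hx', rfl⟩ := hx
        obtain ⟨d, hd, y', hy', rfl⟩ := hy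
        have hclP : Subgroup.closure (Set.range g) ≤ P := (Subgroup.closure_le _).2 (by
          rintro _ ⟨i, rfl⟩; exact hEP (hg i))
        have e1 : c * x' * (d * y') * (c * x')⁻¹ * (d * y')⁻¹ = x' * y' * x'⁻¹ * y'⁻¹ := by
          have hdP := hzcomm d hd
          have hcP := hzcomm c hc
          have hcP' : c ∈ P := (Subgroup.zpowers_le.2 hzP : _ ≤ P) hc
          have hdx := hdP (c * x') (mul_mem hcP' (hclP hx'))
          calc c * x' * (d * y') * (c * x')⁻¹ * (d * y')⁻¹
              = (c * x' * d) * y' * (c * x')⁻¹ * y'⁻¹ * d⁻¹ := by group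
            _ = d * (c * x' * y' * x'⁻¹ * c⁻¹ * y'⁻¹) * d⁻¹ := by rw [hdx.eq]; group
            _ = d * (c * (x' * y' * x'⁻¹) * c⁻¹ * y'⁻¹) * d⁻¹ := by group
            _ = d * (x' * y' * x'⁻¹ * y'⁻¹) * d⁻¹ := by
              rw [← (hcP _ (mul_mem (mul_mem (hclP hx') (hclP hy')) (inv_mem (hclP hx')))).eq, mul_inv_cancel_right]
            _ = x' * y' * x'⁻¹ * y'⁻¹ := by
              rw [← (hdP _ (mul_mem (mul_mem (mul_mem (hclP hx') (hclP hy')) (inv_mem (hclP hx')))
                (inv_mem (hclP hy')))).eq, mul_inv_cancel_right]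
        rw [e1]
        exact mul_mem (mul_mem (mul_mem hx' hy') (inv_mem hx')) (inv_mem hy')
      have h1 := hcl e b he (hAE hb)
      have h2 : e * b * e⁻¹ * b⁻¹ ∈ Subgroup.zpowers z := (hAE hb).2.2 e (hEP he)
      by_contra hne
      refine hzg ?_
      have h3 : e * b * e⁻¹ * b⁻¹ ≠ 1 := fun h => hne (by
        rw [mul_inv_eq_one, mul_inv_eq_iff_eq_mul] at h; exact h)
      obtain ⟨i, hi⟩ := h2
      have hco : IsCoprime (i : ℤ) p := by
        rw [Int.isCoprime_iff_gcd_eq_one]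
        refine Nat.Coprime.symm (hpp.coprime_iff_not_dvd.2 fun hd => h3 ?_)
        rw [← hi, ← orderOf_dvd_iff_zpow_eq_one, hzo]
        exact Int.natCast_dvd.2 hd
      obtain ⟨s, t, hst⟩ := hco
      have h4 : (e * b * e⁻¹ * b⁻¹) ^ s = z := by
        rw [← hi, ← zpow_mul, show i * s = 1 + -t * p by linear_combination hst, zpow_add, zpow_one, zpow_mul,
          zpow_natCast, ← zpow_natCast, ← zpow_mul, mul_comm, zpow_mul, zpow_natCast, hzp, one_zpow, mul_one]
      rw [← h4]
      exact Subgroup.zpow_mem _ h1 s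
  have hS : (Subgroup.centralizer (E : Set H)).index ≤ p ^ (2 * a * (2 * a + 1)) :=
    (index_centralizer_le E gen hgen hEgen).trans (by
      rw [mul_comm (2 * a) (2 * a + 1), pow_mul p]; exact Nat.pow_le_pow_left hEcard _)
  haveI : (Subgroup.centralizer (E : Set H)).Normal := Subgroup.normal_centralizer
  have hmain := two_pow_le_orbits U hUne hUind (Subgroup.centralizer (E : Set H)) fun s hs i u hu =>
    hUinv s (fun b hb => (Subgroup.mem_centralizer_iff.1 hs b (hAE hb)).symm) i u hu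
  rw [hιa] at hmain
  by_contra hlt
  push Not at hlt
  have ho : Nat.card (MulAction.orbitRel.Quotient H V) < p :=
    lt_of_le_of_lt (Nat.le_mul_of_pos_left _ (by omega)) hlt
  have h5 : 2 ^ p ^ a < (2 ^ (l + 1)) ^ (4 * a ^ 2 + 2 * a + 1) := by
    calc 2 ^ p ^ a ≤ Nat.card (MulAction.orbitRel.Quotient H V) * p ^ (2 * a * (2 * a + 1)) :=
          hmain.trans (Nat.mul_le_mul_left _ hS)
      _ < p * p ^ (2 * a * (2 * a + 1)) := Nat.mul_lt_mul_of_pos_right ho (pow_pos hpp.pos _)
      _ = p ^ (4 * a ^ 2 + 2 * a + 1) := by rw [← pow_succ']; congr 1; ring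
      _ ≤ _ := Nat.pow_le_pow_left hp.le _
  rw [← pow_mul] at h5
  exact absurd h5 (not_lt.2 (Nat.pow_le_pow_right two_pos (exp_bound h7 (by omega) a ha1)))

/-- **Nonabelian case.** -/
theorem nonabelian_orbits {p l : ℕ} [Fact p.Prime] (hp2 : p ≠ 2) (hp : p < 2 ^ (l + 1))
    (h7 : 7 * (l + 1) ≤ p) (hl : 1 ≤ l) :
    ∀ (n : ℕ) (H : Type u) (V : Type v) [Group H] [Finite H] [AddCommGroup V] [Finite V]
      [Nontrivial V] [DistribMulAction H V], Nat.card V ≤ n → (Nat.card V).Coprime p →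
      ∀ P : Subgroup H, P.Normal → IsPGroup p P →
      (∀ v : V, (∀ c ∈ ⁅P, P⁆, c • v = v) → v = 0) →
      p ≤ 3 * l * Nat.card (MulAction.orbitRel.Quotient H V) := by
  classical
  have hpp := (Fact.out : p.Prime)
  intro n
  induction n with
  | zero => intro H V _ _ _ _ _ _ hn; have := Nat.card_pos (α := V); omega
  | succ n ih =>
    intro H₀ V _ _ _ _ _ _ hn hcop P₀ hP₀n hP₀ hder₀
    -- a proper invariant subgroup carries the same hypothesis
    by_cases hirr₀ : ∀ U : AddSubgroup V, (∀ a : H₀, ∀ x ∈ U, a • x ∈ U) → U = ⊥ ∨ U = ⊤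
    swap
    · push Not at hirr₀
      obtain ⟨U, hU, hU0, hU1⟩ := hirr₀
      have hlt : Nat.card U < Nat.card V :=
        lt_of_le_of_ne (Finite.card_subtype_le _) fun h => hU1 (AddSubgroup.eq_top_of_card_eq _ h)
      haveI : Nontrivial U := (AddSubgroup.nontrivial_iff_ne_bot U).2 hU0
      let T : Subgroup H₀ := ⊤
      have hT : ∀ h : T, ∀ x ∈ U, h • x ∈ U := fun h => hU (h : H₀)
      letI := subAct U hT
      haveI : (P₀.subgroupOf T).Normal := hP₀n.comap T.subtype
      have h1 := ih T U (by omega)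
        (hcop.coprime_dvd_left (AddSubgroup.card_addSubgroup_dvd_card U)) (P₀.subgroupOf T)
        inferInstance (hP₀.of_equiv (Subgroup.subgroupOfEquivOfLe le_top).symm) fun v hv => by
          refine Subtype.ext (hder₀ v fun c hc => ?_)
          have hc' : (⟨c, trivial⟩ : T) ∈ ⁅P₀.subgroupOf T, P₀.subgroupOf T⁆ := by
            have hmap := Subgroup.map_commutator (P₀.subgroupOf T) (P₀.subgroupOf T) T.subtype
            rw [Subgroup.map_subgroupOf_eq_of_le (show P₀ ≤ T from le_top)] at hmap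
            rw [← hmap] at hc
            obtain ⟨d, hd, hdc⟩ := hc
            rwa [show d = ⟨c, trivial⟩ from Subtype.ext hdc] at hd
          exact congrArg Subtype.val (hv _ hc')
      exact h1.trans (Nat.mul_le_mul_left _ (card_orbits_sub T U hT fun h _ _ _ _ => trivial))
    -- the faithful quotient
    refine le_trans ?_ (Nat.mul_le_mul_left _ (card_orbits_quot (H := H₀) (V := V)))
    letI := quotAct (A := H₀) (V := V)
    obtain ⟨P, hPdef⟩ : ∃ P, P = P₀.map (QuotientGroup.mk' (kerV H₀ V)) := ⟨_, rfl⟩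
    haveI hPn : P.Normal := hPdef ▸ hP₀n.map _ (QuotientGroup.mk'_surjective _)
    have hP : IsPGroup p P := hPdef ▸ hP₀.map _
    have hder : ∀ v : V, (∀ c ∈ ⁅P, P⁆, c • v = v) → v = 0 := fun v hv => hder₀ v fun c hc => by
      have hc' : QuotientGroup.mk' (kerV H₀ V) c ∈ ⁅P, P⁆ := by
        rw [hPdef, ← Subgroup.map_commutator]
        exact Subgroup.mem_map_of_mem _ hc
      exact hv _ hc'
    have hf : ∀ a : H₀ ⧸ kerV H₀ V, (∀ x : V, a • x = x) → a = 1 := quot_faithful
    have hirr : ∀ U : AddSubgroup V, (∀ a : H₀ ⧸ kerV H₀ V, ∀ x ∈ U, a • x ∈ U) → U = ⊥ ∨ U = ⊤ :=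
      fun U hU => hirr₀ U fun a x hx => hU (a : H₀ ⧸ kerV H₀ V) x hx
    exact nonab_step hp2 hp h7 hl n ih hn hcop P hP hder quot_faithful hirr

end Cfsg.Agent.Solv.ClassLower
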