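import Cfsg.Agent.Lib.Solv.ClassLower.AbelianCount
import Cfsg.Agent.Lib.Solv.ClassLower.CoreBound
import Cfsg.Agent.Lib.Solv.ClassLower.NonAbelian

/-!
The case of an abelian normal Sylow subgroup without fixed vectors.
-/

set_option autoImplicit false
set_option linter.unusedSectionVars false
set_option linter.style.haveILetI false
set_option maxHeartbeats 800000

namespace Cfsg.Agent.Solv.ClassLower

open Cfsg.Agent.Solv.OddPair (kerV mem_kerV quotAct quot_smul quot_faithful subAct)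

universe u v

/-- A finite commutative `p`-group with at most `p` roots of unity of order `p` is cyclic. -/
theorem isCyclic_of_torsion {Q : Type*} [CommGroup Q] [Finite Q] {p : ℕ} [Fact p.Prime] (hQ : IsPGroup p Q)
    (h : Nat.card {x : Q // x ^ p = 1} ≤ p) : IsCyclic Q := by
  classical
  have hpp := (Fact.out : p.Prime)
  have key : ∀ j : ℕ, Nat.card (powMonoidHom (p ^ j) : Q →* Q).ker ≤ p ^ j := by
    intro j
    induction j with
    | zero =>
      have : (powMonoidHom (p ^ 0) : Q →* Q).ker = ⊥ := by ext x; simp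
      rw [this, Subgroup.card_bot, pow_zero]
    | succ j ih =>
      let f : (powMonoidHom (p ^ (j + 1)) : Q →* Q).ker →* Q := (powMonoidHom p).comp (Subgroup.subtype _)
      have h2 : f.range ≤ (powMonoidHom (p ^ j) : Q →* Q).ker := by
        rintro _ ⟨⟨x, hx⟩, rfl⟩
        show (x ^ p) ^ p ^ j = 1
        rw [← pow_mul, ← pow_succ']; exact hx
      have h3 : Nat.card f.ker ≤ Nat.card {x : Q // x ^ p = 1} :=
        Nat.card_le_card_of_injective (fun x => ⟨x.1.1, x.2⟩) fun x y e => Subtype.ext (Subtype.ext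
          (congrArg Subtype.val e :))
      rw [Subgroup.card_eq_card_quotient_mul_card_subgroup f.ker,
        Nat.card_congr (QuotientGroup.quotientKerEquivRange f).toEquiv]
      refine le_of_le_of_eq ?_ (pow_succ p j).symm
      exact Nat.mul_le_mul ((Subgroup.card_le_of_le h2).trans ih) (h3.trans h)
  have := Fintype.ofFinite Q
  refine isCyclic_of_card_pow_eq_one_le fun n hn => ?_
  obtain ⟨j, m, hm, rfl⟩ : ∃ j m, ¬ p ∣ m ∧ n = p ^ j * m := Nat.exists_eq_pow_mul_and_not_dvd hn.ne' p hpp.ne_one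
  refine le_trans ?_ ((key j).trans (Nat.le_mul_of_pos_right _ (Nat.pos_of_ne_zero fun h0 => hm (h0 ▸ dvd_zero p))))
  rw [Nat.card_eq_fintype_card, ← Finset.card_univ]
  refine Finset.card_le_card_of_injOn (fun a => if ha : a ^ (p ^ j) = 1 then ⟨a, ha⟩ else 1) (fun _ _ => Finset.mem_univ _) ?_
  have hall : ∀ a : Q, a ^ (p ^ j * m) = 1 → a ^ p ^ j = 1 := fun a ha => by
    obtain ⟨i, hi⟩ := hQ a
    have h1 : (a ^ p ^ j) ^ Nat.gcd m (p ^ i) = 1 :=
      pow_gcd_eq_one.2 ⟨by rw [← pow_mul]; exact ha, by rw [← pow_mul, mul_comm, pow_mul, hi, one_pow]⟩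
    rwa [((hpp.coprime_iff_not_dvd.2 hm).symm.pow_right i).gcd_eq_one, pow_one] at h1
  intro a ha b hb hab
  simp only [Finset.coe_filter, Finset.mem_univ, true_and, Set.mem_setOf_eq] at ha hb
  simp only [dif_pos (hall a ha), dif_pos (hall b hb)] at hab
  exact congrArg Subtype.val hab

/-- **Abelian case.** -/
theorem abelian_step {H : Type u} {V : Type v} [Group H] [Finite H] [AddCommGroup V] [Finite V]
    [Nontrivial V] [DistribMulAction H V] {q : ℕ} [Fact q.Prime] (hq : ∀ v : V, q • v = 0)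
    {p l : ℕ} [Fact p.Prime] (hl : 5 ≤ l) (hp : p < 2 ^ (l + 1)) (P : Subgroup H) [hPn : P.Normal]
    (hP : IsPGroup p P) (hidx : ¬ p ∣ P.index) (hcomm : ∀ a ∈ P, ∀ b ∈ P, Commute a b)
    (hcop : (Nat.card V).Coprime p) (hfix : ∀ v : V, (∀ y ∈ P, y • v = v) → v = 0) :
    p ≤ 3 * l * Nat.card (ConjClasses H) ∨ p ≤ 3 * l * Nat.card (MulAction.orbitRel.Quotient H V) := by
  classical
  have hpp := (Fact.out : p.Prime)
  -- a largest subgroup with a fixed vector
  let S : Set (Subgroup H) := {K | K ≤ P ∧ ∃ v : V, v ≠ 0 ∧ ∀ k ∈ K, k • v = v}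
  haveI : Nonempty S := ⟨⟨⊥, bot_le, by
    obtain ⟨v, hv⟩ := exists_ne (0 : V)
    exact ⟨v, hv, fun k hk => by rw [Subgroup.mem_bot.1 hk, one_smul]⟩⟩⟩
  haveI : Finite (Subgroup H) := Finite.of_injective (fun S => (S : Set H)) SetLike.coe_injective
  obtain ⟨⟨K, hKP, v₁, hv₁, hKv₁⟩, hmax⟩ := Finite.exists_max fun K : S => Nat.card (K : Subgroup H)
  let U : AddSubgroup V :=
    { carrier := {v | ∀ k ∈ K, k • v = v}
      zero_mem' := fun k _ => smul_zero k
      add_mem' := fun {a b} ha hb k hk => by rw [smul_add, ha k hk, hb k hk]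
      neg_mem' := fun {a} ha k hk => by rw [smul_neg, ha k hk] }
  have hUP : ∀ y ∈ P, ∀ u ∈ U, y • u ∈ U := fun y hy u hu k hk => by
    rw [← mul_smul, (hcomm k (hKP hk) y hy).eq, mul_smul, hu k hk]
  have hnofix : ∀ g ∈ P, g ∉ K → ∀ u ∈ U, g • u = u → u = 0 := by
    intro g hg hgK u hu hgu
    by_contra hu0
    have hle : K ⊔ Subgroup.zpowers g ≤ MulAction.stabilizer H u :=
      sup_le (fun k hk => hu k hk) (Subgroup.zpowers_le.2 hgu)
    have heq := Subgroup.eq_of_le_of_card_ge (le_sup_left : K ≤ K ⊔ Subgroup.zpowers g)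
      (hmax ⟨_, sup_le hKP (Subgroup.zpowers_le.2 hg), u, hu0, fun k hk => hle hk⟩)
    exact hgK (heq ▸ le_sup_right (a := K) (Subgroup.mem_zpowers g))
  have hKne : ∃ y ∈ P, y ∉ K := by
    by_contra hall
    push Not at hall
    exact hv₁ (hfix v₁ fun y hy => hKv₁ y (hall y hy))
  -- the section is cyclic
  let KP : Subgroup P := K.subgroupOf P
  haveI hPcomm : IsMulCommutative P := ⟨⟨fun a b => Subtype.ext (hcomm a a.2 b b.2)⟩⟩
  haveI : KP.Normal := ⟨fun a ha g => by rw [mul_comm' g a, mul_inv_cancel_right]; exact ha⟩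
  letI : CommGroup (P ⧸ KP) :=
    { (inferInstance : Group (P ⧸ KP)) with
      mul_comm := fun a b => by
        induction a using QuotientGroup.induction_on
        induction b using QuotientGroup.induction_on
        rw [← QuotientGroup.mk_mul, ← QuotientGroup.mk_mul, mul_comm'] }
  have hQp : IsPGroup p (P ⧸ KP) := hP.to_quotient KP
  have htors : Nat.card {x : P ⧸ KP // x ^ p = 1} ≤ p := by
    by_cases hex : ∃ a : P, (a : H) ∉ K ∧ (a : H) ^ p ∈ K
    swap
    · have : Subsingleton {x : P ⧸ KP // x ^ p = 1} := ⟨fun x y => by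
        have h1 : ∀ z : {x : P ⧸ KP // x ^ p = 1}, z.1 = 1 := by
          rintro ⟨z, hz⟩
          obtain ⟨a, rfl⟩ := QuotientGroup.mk_surjective z
          rw [← QuotientGroup.mk_pow, QuotientGroup.eq_one_iff] at hz
          refine (QuotientGroup.eq_one_iff a).2 ?_
          by_contra ha
          exact hex ⟨a, ha, by simpa [KP, Subgroup.mem_subgroupOf] using hz⟩
        exact Subtype.ext ((h1 x).trans (h1 y).symm)⟩
      exact le_trans (Finite.card_le_one_iff_subsingleton.2 this) hpp.one_lt.le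
    obtain ⟨a, ha, hap⟩ := hex
    have hmem : ∀ b : P, (b : H) ^ p ∈ K → ∃ k : ℕ, (a : H) ^ k * b ∈ K := by
      intro b hbp
      by_contra hall
      push Not at hall
      obtain ⟨u, hu, hu0⟩ : ∃ u ∈ U, u ≠ 0 := ⟨v₁, hKv₁, hv₁⟩
      have hsum0 : ∀ g ∈ P, g ∉ K → g ^ p ∈ K → ∀ w ∈ U, ∑ j ∈ Finset.range p, g ^ j • w = 0 := by
        intro g hg hgK hgp w hw
        refine hnofix g hg hgK _ (U.sum_mem fun j _ => hUP _ (pow_mem hg j) w hw) ?_
        rw [Finset.smul_sum]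
        simp only [← mul_smul, ← pow_succ']
        have h2 := Finset.sum_range_succ' (fun j => g ^ j • w) p
        have h3 := Finset.sum_range_succ (fun j => g ^ j • w) p
        rw [h3, hw _ hgp, pow_zero, one_smul, add_right_cancel_iff] at h2
        exact h2.symm
      have hab : Commute (a : H) b := hcomm a a.2 b b.2
      have h1 : ∀ k : ℕ, ∑ j ∈ Finset.range p, ((a : H) ^ k * b) ^ j • u = 0 := fun k => by
        refine hsum0 _ (mul_mem (pow_mem a.2 k) b.2) (hall k) ?_ u hu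
        rw [(hab.pow_left k).mul_pow, ← pow_mul, mul_comm k p, pow_mul]
        exact mul_mem (pow_mem hap k) hbp
      have h2 : ∑ k ∈ Finset.range p, ∑ j ∈ Finset.range p, ((a : H) ^ k * b) ^ j • u = p • u := by
        rw [Finset.sum_comm, Finset.sum_eq_single 0]
        · simp
        · intro j hj hj0
          rw [Finset.mem_range] at hj
          have hajK : (a : H) ^ j ∉ K := fun hK => by
            obtain ⟨s, t, hst⟩ := Nat.Coprime.isCoprime ((hpp.coprime_iff_not_dvd.2 fun hd => absurd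
              (Nat.le_of_dvd (Nat.pos_of_ne_zero hj0) hd) (by omega)).symm)
            refine ha ?_
            rw [← zpow_one (a : H), ← hst, zpow_add, mul_comm s, mul_comm t, zpow_mul, zpow_mul, zpow_natCast,
              zpow_natCast]
            exact mul_mem (zpow_mem hK s) (zpow_mem hap t)
          have h3 := hsum0 _ (pow_mem a.2 j) hajK (by rw [← pow_mul, mul_comm, pow_mul]; exact pow_mem hap j)
            ((b : H) ^ j • u) (hUP _ (pow_mem b.2 j) u hu)
          rw [← h3]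
          refine Finset.sum_congr rfl fun k _ => ?_
          rw [(hab.pow_left k).mul_pow, mul_smul, ← pow_mul, ← pow_mul, mul_comm k j]
        · intro h; exact absurd (Finset.mem_range.2 hpp.pos) h
      rw [Finset.sum_eq_zero fun k _ => h1 k] at h2
      exact hu0 (eq_zero_of_coprime hcop h2.symm)
    have hle : Nat.card {x : P ⧸ KP // x ^ p = 1} ≤ Nat.card (Subgroup.zpowers (a : P ⧸ KP)) := by
      refine Nat.card_le_card_of_injective (fun x => ⟨x.1, ?_⟩) fun x y e => Subtype.ext (congrArg Subtype.val e :)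
      obtain ⟨b, hb⟩ := QuotientGroup.mk_surjective x.1
      have h1 := x.2
      rw [← hb, ← QuotientGroup.mk_pow, QuotientGroup.eq_one_iff] at h1
      obtain ⟨k, hk⟩ := hmem b (by simpa [KP, Subgroup.mem_subgroupOf] using h1)
      have h2 : ((a ^ k * b : P) : P ⧸ KP) = 1 := (QuotientGroup.eq_one_iff _).2 hk
      rw [QuotientGroup.mk_mul, mul_eq_one_iff_eq_inv'] at h2
      rw [← hb, h2, QuotientGroup.mk_pow]
      exact inv_mem (pow_mem (Subgroup.mem_zpowers _) k)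
    refine hle.trans ?_
    rw [Nat.card_zpowers]
    refine Nat.le_of_dvd hpp.pos (orderOf_dvd_of_pow_eq_one ?_)
    rw [← QuotientGroup.mk_pow, QuotientGroup.eq_one_iff]
    exact hap
  haveI hcyc : IsCyclic (P ⧸ KP) := isCyclic_of_torsion hQp htors
  obtain ⟨N, hNdef⟩ : ∃ N, N = Nat.card (P ⧸ KP) := ⟨_, rfl⟩
  obtain ⟨z, hz⟩ : ∃ z, N = p ^ z := hNdef ▸ IsPGroup.iff_card.1 hQp
  have hN1 : 1 < N := by
    obtain ⟨y, hy, hyK⟩ := hKne
    rw [hNdef, Finite.one_lt_card_iff_nontrivial]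
    exact ⟨⟨((⟨y, hy⟩ : P) : P ⧸ KP), 1, fun h => hyK ((QuotientGroup.eq_one_iff (N := KP) (⟨y, hy⟩ : P)).1 h)⟩⟩
  haveI : NeZero N := ⟨by omega⟩
  obtain ⟨gb, hgb⟩ := IsCyclic.exists_generator (α := P ⧸ KP)
  obtain ⟨g₀, rfl⟩ := QuotientGroup.mk_surjective gb
  have hgbo : orderOf (g₀ : P ⧸ KP) = N := hNdef ▸ orderOf_eq_card_of_forall_mem_zpowers hgb
  -- the linear character
  have hζ := Complex.isPrimitiveRoot_exp N (by omega)
  obtain ⟨ζ, hζo⟩ : ∃ ζ : ℂˣ, orderOf ζ = N := by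
    refine ⟨(hζ.isUnit (by omega)).unit, ?_⟩
    rw [← orderOf_units, IsUnit.unit_spec, ← hζ.eq_orderOf]
  let μQ : P ⧸ KP →* ℂˣ := monoidHomOfForallMemZpowers hgb (g' := ζ) (by rw [hgbo, hζo])
  let μ : P →* ℂˣ := μQ.comp (QuotientGroup.mk' KP)
  have hμg : μQ (g₀ : P ⧸ KP) = ζ := monoidHomOfForallMemZpowers_apply_gen hgb _
  have hμQ : ∀ x, μQ x = 1 → x = 1 := by
    intro x hx
    obtain ⟨i, rfl⟩ := hgb x
    rw [map_zpow, hμg, ← orderOf_dvd_iff_zpow_eq_one, hζo] at hx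
    exact orderOf_dvd_iff_zpow_eq_one.1 (by rw [hgbo]; exact hx)
  have hker : ∀ y : P, μ y = 1 ↔ (y : H) ∈ K := fun y =>
    ⟨fun h => (QuotientGroup.eq_one_iff y).1 (hμQ _ h), fun h => by
      show μQ (y : P ⧸ KP) = 1
      rw [(QuotientGroup.eq_one_iff y).2 h, map_one]⟩
  have hμN : ∀ y, μ y ^ N = 1 := fun y => by
    show μQ (y : P ⧸ KP) ^ N = 1
    rw [← map_pow, hNdef, pow_card_eq_one', map_one]
  -- inertia group and normaliser
  let T : Subgroup H :=
    { carrier := {h | ∀ y ∈ P, h * y * h⁻¹ * y⁻¹ ∈ K}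
      one_mem' := fun y _ => by simp
      mul_mem' := fun {a b} ha hb y hy => by
        have e : a * b * y * (a * b)⁻¹ * y⁻¹ =
            (a * (b * y * b⁻¹) * a⁻¹ * (b * y * b⁻¹)⁻¹) * (b * y * b⁻¹ * y⁻¹) := by group
        rw [e]
        exact mul_mem (ha _ (hPn.conj_mem y hy b)) (hb y hy)
      inv_mem' := fun {a} ha y hy => by
        have h1 := inv_mem (ha (a⁻¹ * y * a) (by simpa using hPn.conj_mem y hy a⁻¹))
        rw [show (a * (a⁻¹ * y * a) * a⁻¹ * (a⁻¹ * y * a)⁻¹)⁻¹ = a⁻¹ * y * a⁻¹⁻¹ * y⁻¹ by group] at h1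
        exact h1 }
  obtain ⟨H', hH'⟩ : ∃ H', H' = Subgroup.normalizer (K : Set H) := ⟨_, rfl⟩
  have hH'mem : ∀ h, (∀ y ∈ P, (y ∈ K ↔ h * y * h⁻¹ ∈ K)) → h ∈ H' := by
    intro h hh
    rw [hH', Subgroup.mem_normalizer_iff]
    intro k
    by_cases hk : k ∈ P
    · exact hh k hk
    · exact ⟨fun h1 => absurd (hKP h1) hk, fun h1 => absurd (by
        have := hPn.conj_mem _ (hKP h1) h⁻¹
        simpa [mul_assoc] using this) hk⟩
  have hTH' : T ≤ H' := fun t ht => hH'mem t fun y hy => by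
    have h1 := ht y hy
    exact ⟨fun hK => by simpa using mul_mem h1 hK, fun hK => by
      have h2 := mul_mem (inv_mem h1) hK
      rwa [show (t * y * t⁻¹ * y⁻¹)⁻¹ * (t * y * t⁻¹) = y by group] at h2⟩
  have hPT : P ≤ T := fun t ht y hy => by
    rw [(hcomm t ht y hy).eq, mul_inv_cancel_right, mul_inv_cancel]
    exact one_mem _
  have hPTidx : ¬ p ∣ (P.subgroupOf T).index := fun hd =>
    hidx (hd.trans (Subgroup.relIndex_dvd_index_of_normal P T))
  have hcopN : (P.subgroupOf T).index.Coprime N := by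
    rw [hz]; exact ((hpp.coprime_iff_not_dvd.2 hPTidx).symm).pow_right z
  haveI : (P.subgroupOf T).Normal := hPn.comap T.subtype
  have hcount := count_bound P K hN1 μ hker g₀ (hμg ▸ hζo) hμN T H' (fun h => Iff.rfl) hH'mem hPT hcopN
  -- the action on the section
  have hconjK : ∀ (h : H') (y : P), y ∈ KP ↔ MulAut.conjNormal (h : H) y ∈ KP := by
    intro h y
    have h1 : (h : H) ∈ Subgroup.normalizer (K : Set H) := hH' ▸ h.2
    simp only [KP, Subgroup.mem_subgroupOf, MulAut.conjNormal_apply]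
    exact Subgroup.mem_normalizer_iff.1 h1 y
  let φe : H' → MulAut (P ⧸ KP) := fun h =>
    QuotientGroup.congr KP KP (MulAut.conjNormal (h : H)) (by
      ext y
      rw [Subgroup.mem_map]
      constructor
      · rintro ⟨w, hw, rfl⟩; exact (hconjK h w).1 hw
      · intro hy
        refine ⟨(MulAut.conjNormal (h : H)).symm y, (hconjK h _).2 ?_, ?_⟩
        · rwa [MulEquiv.apply_symm_apply]
        · exact MulEquiv.apply_symm_apply _ _)
  have hφe : ∀ (h : H') (y : P), φe h (y : P ⧸ KP) = ((MulAut.conjNormal (h : H) y : P) : P ⧸ KP) :=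
    fun h y => rfl
  let φ : H' →* MulAut (P ⧸ KP) :=
    { toFun := φe
      map_one' := MulEquiv.ext fun x => by
        obtain ⟨y, rfl⟩ := QuotientGroup.mk_surjective x
        rw [hφe, Subgroup.coe_one, map_one]; rfl
      map_mul' := fun a b => MulEquiv.ext fun x => by
        obtain ⟨y, rfl⟩ := QuotientGroup.mk_surjective x
        rw [hφe, MulAut.mul_apply, hφe, hφe, Subgroup.coe_mul, map_mul]; rfl }
  have hφker : φ.ker = T.subgroupOf H' := by
    ext h
    rw [MonoidHom.mem_ker, Subgroup.mem_subgroupOf]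
    constructor
    · intro h1 y hy
      have h2 : φe h ((⟨y, hy⟩ : P) : P ⧸ KP) = ((⟨y, hy⟩ : P) : P ⧸ KP) :=
        DFunLike.congr_fun h1 _
      rw [hφe, eq_comm, QuotientGroup.eq, Subgroup.mem_subgroupOf] at h2
      have h3 : y⁻¹ * ((h : H) * y * (h : H)⁻¹) ∈ K := by simpa using h2
      rwa [← (hcomm _ (inv_mem hy) _ (hPn.conj_mem y hy h)).eq.symm] at h3
    · intro h1
      refine MulEquiv.ext fun x => ?_
      obtain ⟨y, rfl⟩ := QuotientGroup.mk_surjective x
      show φe h (y : P ⧸ KP) = (y : P ⧸ KP)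
      rw [hφe, eq_comm, QuotientGroup.eq, Subgroup.mem_subgroupOf, mul_comm']
      simpa using h1 y y.2
  obtain ⟨σ, hσdef⟩ : ∃ σ, σ = (T.subgroupOf H').index := ⟨_, rfl⟩
  have hσrange : σ = Nat.card φ.range := by rw [hσdef, ← hφker, Subgroup.index_ker]
  have hσp : ¬ p ∣ σ := fun hd => hidx (hd.trans (by
    rw [hσdef]
    refine dvd_trans ?_ (Subgroup.relIndex_dvd_index_of_normal P H')
    exact Dvd.intro_left _ (Subgroup.relIndex_mul_relIndex P T H' hPT hTH')))
  rw [← hσdef] at hcount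
  obtain ⟨z', rfl⟩ : ∃ z', z = z' + 1 := ⟨z - 1, by
    rcases z with _ | z
    · rw [hz, pow_zero] at hN1; omega
    · omega⟩
  have hσdvd : σ ∣ p - 1 := by
    refine ((hpp.coprime_iff_not_dvd.2 hσp).symm.pow_right z').dvd_of_dvd_mul_left ?_
    have h1 := (Subgroup.card_subgroup_dvd_card φ.range)
    rw [IsCyclic.card_mulAut, ← hNdef, hz, Nat.totient_prime_pow_succ hpp] at h1
    rw [hσrange]
    exact h1
  rw [hz, Nat.totient_prime_pow_succ hpp] at hcount
  have hk1 : 1 ≤ Nat.card (ConjClasses H) := Nat.card_pos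
  have hp1 : 0 < p - 1 := by have := hpp.two_le; omega
  obtain ⟨kT, hkT⟩ : ∃ kT, kT = Nat.card (ConjClasses (T ⧸ P.subgroupOf T)) := ⟨_, rfl⟩
  rw [← hkT] at hcount
  have hkT1 : 1 ≤ kT := hkT ▸ Nat.card_pos
  rcases Nat.eq_zero_or_pos z' with hz0 | hz0
  swap
  · -- a long section
    refine Or.inl ?_
    have h1 : p * (p - 1) ≤ (Nat.card (ConjClasses H) - 1) * (p - 1) := by
      calc p * (p - 1) ≤ p ^ z' * (p - 1) * kT := by
            refine le_trans (Nat.mul_le_mul_right _ (Nat.le_self_pow hz0.ne' p)) (Nat.le_mul_of_pos_right _ hkT1)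
        _ ≤ σ * (Nat.card (ConjClasses H) - 1) := hcount
        _ ≤ (p - 1) * (Nat.card (ConjClasses H) - 1) := Nat.mul_le_mul_right _ (Nat.le_of_dvd hp1 hσdvd)
        _ = _ := mul_comm _ _
    have h2 := Nat.le_of_mul_le_mul_right h1 hp1
    exact h2.trans ((Nat.sub_le _ _).trans (Nat.le_mul_of_pos_left _ (by omega)))
  subst hz0
  rw [pow_zero, one_mul] at hcount
  rw [zero_add, pow_one] at hz
  rw [hz] at hgbo hNdef
  by_cases hsmall : σ ≤ 3 * l * kT
  · refine Or.inl ?_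
    have h1 : (p - 1) * kT ≤ (3 * l * (Nat.card (ConjClasses H) - 1)) * kT :=
      hcount.trans ((Nat.mul_le_mul_right _ hsmall).trans_eq (by ring))
    have h2 := Nat.le_of_mul_le_mul_right h1 hkT1
    rw [Nat.mul_sub, mul_one] at h2
    have h3 : 3 * l ≤ 3 * l * Nat.card (ConjClasses H) := Nat.le_mul_of_pos_right _ hk1
    omega
  -- the section of order p: many orbits
  refine Or.inr ?_
  have hcard := (Subgroup.card_subgroup_dvd_card φ.range)
  haveI : IsCyclic (MulAut (P ⧸ KP)) := by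
    rw [(IsCyclic.mulAutMulEquiv (P ⧸ KP)).isCyclic, ← hNdef]
    infer_instance
  obtain ⟨⟨_, h, rfl⟩, hgen⟩ := IsCyclic.exists_generator (α := φ.range)
  have hgen' : ∀ b : H', ∃ i : ℕ, φ b = φ h ^ i := by
    intro b
    obtain ⟨i, hi⟩ := (isOfFinOrder_of_finite _).mem_powers_iff_mem_zpowers.2 (hgen ⟨φ b, b, rfl⟩)
    exact ⟨i, (congrArg Subtype.val hi).symm⟩
  have hho : orderOf (φ h) = σ := by
    have := orderOf_eq_card_of_forall_mem_zpowers hgen
    rw [hσrange, ← this]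
    exact Subgroup.orderOf_coe (⟨φ h, h, rfl⟩ : φ.range)
  obtain ⟨c, hc⟩ : ∃ c : ℕ, φe h (g₀ : P ⧸ KP) = (g₀ : P ⧸ KP) ^ c := by
    obtain ⟨c, hc⟩ := (isOfFinOrder_of_finite _).mem_powers_iff_mem_zpowers.2 (hgb (φe h (g₀ : P ⧸ KP)))
    exact ⟨c, hc.symm⟩
  have hpowg : ∀ i : ℕ, (φ h ^ i) (g₀ : P ⧸ KP) = (g₀ : P ⧸ KP) ^ (c ^ i) := by
    intro i
    induction i with
    | zero => simp
    | succ i ih =>
      rw [pow_succ, MulAut.mul_apply, show φ h (g₀ : P ⧸ KP) = _ from hc, map_pow, ih, ← pow_mul, pow_succ]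
  have hco : orderOf (c : ZMod p) = σ := by
    rw [← hho, orderOf_eq_orderOf_iff]
    intro n
    constructor
    · intro h1
      refine MulEquiv.ext fun x => ?_
      obtain ⟨i, rfl⟩ := hgb x
      show (φ h ^ n) ((g₀ : P ⧸ KP) ^ i) = (g₀ : P ⧸ KP) ^ i
      rw [map_zpow, hpowg]
      congr 1
      rw [← pow_mod_orderOf, hgbo]
      rw [← Nat.cast_pow, ← Nat.cast_one, ZMod.natCast_eq_natCast_iff'] at h1
      rw [h1, Nat.mod_eq_of_lt hpp.one_lt, pow_one]
    · intro h1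
      have h2 := hpowg n
      rw [h1] at h2
      have h3 : (g₀ : P ⧸ KP) ^ 1 = (g₀ : P ⧸ KP) ^ (c ^ n) := by rw [pow_one]; exact h2
      rw [pow_inj_mod, hgbo] at h3
      rw [← Nat.cast_pow, ← Nat.cast_one, ZMod.natCast_eq_natCast_iff']
      exact h3.symm
  -- the group on the fixed space
  have hU : ∀ b : H', ∀ x ∈ U, b • x ∈ U := by
    intro b x hx k hk
    have hb : (b : H) ∈ Subgroup.normalizer (K : Set H) := hH' ▸ b.2
    have h1 := hx _ ((Subgroup.mem_normalizer_iff.1 (inv_mem hb) k).1 hk)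
    rw [inv_inv, mul_smul, mul_smul, inv_smul_eq_iff] at h1
    exact h1
  have hmeet : ∀ b : H, ∀ x ∈ U, x ≠ 0 → b • x ∈ U → b ∈ H' := by
    intro b x hx hx0 hbx
    have hbx0 : b • x ≠ 0 := fun e => hx0 ((smul_eq_zero_iff_eq b).1 e)
    refine hH'mem b fun y hy => ?_
    have hy' := hPn.conj_mem y hy b
    have key : ∀ w ∈ U, w ≠ 0 → ∀ y ∈ P, (y ∈ K ↔ y • w = w) := fun w hw hw0 y hy =>
      ⟨fun hk => hw y hk, fun he => by_contra fun hk => hw0 (hnofix y hy hk w hw he)⟩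
    rw [key x hx hx0 y hy, key _ hbx hbx0 _ hy', mul_smul, mul_smul, inv_smul_smul, smul_left_cancel_iff]
  letI := subAct U hU
  haveI : Nontrivial U := (AddSubgroup.nontrivial_iff_ne_bot U).2 fun hb =>
    hv₁ ((AddSubgroup.eq_bot_iff_forall U).1 hb v₁ hKv₁)
  refine le_trans ?_ (Nat.mul_le_mul_left _ (card_orbits_sub H' U hU hmeet))
  refine le_trans ?_ (Nat.mul_le_mul_left _ (card_orbits_quot (H := H') (V := U)))
  letI := quotAct (A := H') (V := U)
  letI : Module (ZMod q) U := AddCommGroup.zmodModule fun x => Subtype.ext (by simpa using hq (x : V))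
  let π : H' →* H' ⧸ kerV H' U := QuotientGroup.mk' _
  let ιT : T →* H' := Subgroup.inclusion hTH'
  obtain ⟨Rt, hRt⟩ := Subgroup.exists_right_complement'_of_coprime (N := P.subgroupOf T) (by
    rw [Nat.card_congr (Subgroup.subgroupOfEquivOfLe hPT).toEquiv]
    obtain ⟨e, he⟩ := IsPGroup.iff_card.1 hP
    rw [he]
    exact (hpp.coprime_iff_not_dvd.2 hPTidx).pow_left e)
  have hg₀T : (g₀ : H) ∈ T := hPT g₀.2
  obtain ⟨x, hx⟩ : ∃ x, x = π ⟨g₀, hTH' hg₀T⟩ := ⟨_, rfl⟩
  have hπK : ∀ b : H', (b : H) ∈ K → π b = 1 := fun b hb =>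
    (QuotientGroup.eq_one_iff b).2 fun u => Subtype.ext (u.2 (b : H) hb)
  have hπP : ∀ b : H', (b : H) ∈ P → ∃ m : ℕ, π b = x ^ m := by
    intro b hb
    obtain ⟨m, hm⟩ := (isOfFinOrder_of_finite _).mem_powers_iff_mem_zpowers.2 (hgb ((⟨b, hb⟩ : P) : P ⧸ KP))
    refine ⟨m, ?_⟩
    have hm' : ((g₀ ^ m : P) : P ⧸ KP) = ((⟨b, hb⟩ : P) : P ⧸ KP) := by rw [QuotientGroup.mk_pow]; exact hm
    have h1 := QuotientGroup.eq.1 hm'
    rw [Subgroup.mem_subgroupOf] at h1
    have h2 := hπK ((⟨g₀, hTH' hg₀T⟩ ^ m)⁻¹ * b) (by simpa using h1)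
    rw [map_mul, map_inv, map_pow, ← hx, inv_mul_eq_one] at h2
    exact h2.symm
  have hxT : ∀ t : T, Commute x (π (ιT t)) := by
    intro t
    obtain ⟨g, hg⟩ : ∃ g : H', g = ⟨g₀, hTH' hg₀T⟩ := ⟨_, rfl⟩
    have hmem : ((ιT t * g * (ιT t)⁻¹ * g⁻¹ : H') : H) ∈ K := by
      rw [hg]; exact t.2 g₀ g₀.2
    have h2 := hπK _ hmem
    rw [hg] at h2
    rw [map_mul, map_mul, map_mul, map_inv, map_inv, ← hx, mul_inv_eq_one, mul_inv_eq_iff_eq_mul] at h2
    exact h2.symm
  have hTdec : ∀ t : T, ∃ m : ℕ, ∃ r ∈ Rt, π (ιT t) = x ^ m * π (ιT r) := by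
    intro t
    obtain ⟨⟨⟨a, ha⟩, ⟨r, hr⟩⟩, e⟩ := hRt.2 t
    obtain ⟨m, hm⟩ := hπP (ιT a) ha
    refine ⟨m, r, hr, ?_⟩
    rw [← e, map_mul, map_mul, hm]
  have hxp : x ^ p = 1 := by
    rw [hx, ← map_pow]
    refine hπK _ ?_
    have h1 : ((g₀ ^ p : P) : P ⧸ KP) = 1 := by rw [QuotientGroup.mk_pow, ← hgbo, pow_orderOf_eq_one]
    rw [QuotientGroup.eq_one_iff, Subgroup.mem_subgroupOf] at h1
    simpa using h1
  have hxfix : ∀ v : U, x • v = v → v = 0 := by
    intro v hv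
    rw [hx] at hv
    have hg0K : (g₀ : H) ∉ K := fun h => by
      have := (QuotientGroup.eq_one_iff g₀).2 (show g₀ ∈ KP from h)
      rw [← orderOf_eq_one_iff, hgbo] at this
      exact hpp.ne_one this
    exact Subtype.ext (hnofix g₀ g₀.2 hg0K v v.2 (congrArg Subtype.val hv))
  have hxne : x ≠ 1 := fun h1 => by
    obtain ⟨v, hv⟩ := exists_ne (0 : U)
    exact hv (hxfix v (by rw [h1, one_smul]))
  let R : Subgroup (H' ⧸ kerV H' U) := Rt.map (π.comp ιT)
  have hRcard : Nat.card Rt = (P.subgroupOf T).index := hRt.symm.index_eq_card.symm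
  have hRn : R.Normal := by
    refine ⟨fun r hr γ => ?_⟩
    obtain ⟨r, hr, rfl⟩ := hr
    obtain ⟨b, rfl⟩ := QuotientGroup.mk'_surjective (kerV H' U) γ
    have hker' : φ.ker.Normal := inferInstance
    rw [hφker] at hker'
    have hmem : ((b * ιT r * b⁻¹ : H') : H) ∈ T := Subgroup.mem_subgroupOf.1 (hker'.conj_mem (ιT r) r.2 b)
    obtain ⟨m, r', hr', he⟩ := hTdec ⟨_, hmem⟩
    change π (b * ιT r * b⁻¹) = _ at he
    have hpow : ∀ s ∈ Rt, π (ιT s) ^ Nat.card Rt = 1 := fun s hs => by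
      rw [← map_pow, ← map_pow, show s ^ Nat.card Rt = 1 from congrArg Subtype.val
        (pow_card_eq_one' (x := (⟨s, hs⟩ : Rt))), map_one, map_one]
    have h1 : (π (b * ιT r * b⁻¹)) ^ Nat.card Rt = 1 := by
      rw [map_mul, map_mul, map_inv, conj_pow, hpow r hr, mul_one, mul_inv_cancel]
    rw [he, ((hxT r').pow_left m).mul_pow, hpow r' hr', mul_one, ← pow_mul] at h1
    have h2 : p ∣ m * Nat.card Rt := orderOf_eq_prime hxp hxne ▸ orderOf_dvd_of_pow_eq_one h1
    have h3 : p ∣ m := (hpp.dvd_mul.1 h2).resolve_right (hRcard ▸ hPTidx)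
    obtain ⟨d, rfl⟩ := h3
    rw [pow_mul, hxp, one_pow, one_mul] at he
    show π b * π (ιT r) * (π b)⁻¹ ∈ R
    rw [← map_inv, ← map_mul, ← map_mul, he]
    exact ⟨r', hr', rfl⟩
  have hkR : Nat.card (ConjClasses R) ≤ kT := by
    rw [hkT]
    refine le_trans ?_ (Nat.card_le_card_of_surjective _ (ConjClasses.map_surjective
      (f := hRt.symm.QuotientMulEquiv.toMonoidHom) hRt.symm.QuotientMulEquiv.surjective))
    exact Nat.card_le_card_of_surjective _
      (ConjClasses.map_surjective ((π.comp ιT).subgroupMap_surjective Rt))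
  refine core_bound (q := q) hl hp R hRn x (π h) c ?_ hxp hxfix ?_ ?_ ?_ ?_
  · rintro _ ⟨r, hr, rfl⟩
    exact hxT r
  · rw [hx, ← map_inv, ← map_mul, ← map_mul, ← map_pow]
    refine mul_inv_eq_one.1 ?_
    rw [← map_inv, ← map_mul]
    refine hπK _ ?_
    have h1 : ((MulAut.conjNormal (h : H) g₀ : P) : P ⧸ KP) = ((g₀ ^ c : P) : P ⧸ KP) := by
      rw [← hφe, hc, QuotientGroup.mk_pow]
    rw [eq_comm, QuotientGroup.eq, Subgroup.mem_subgroupOf] at h1
    have h2 := hcomm _ (inv_mem (pow_mem g₀.2 c)) _ (hPn.conj_mem _ g₀.2 (h : H))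
    simp only [Subgroup.coe_mul, Subgroup.coe_inv, SubmonoidClass.coe_pow, MulAut.conjNormal_apply] at h1 ⊢
    rwa [← h2.eq]
  · intro γ
    obtain ⟨b, rfl⟩ := QuotientGroup.mk'_surjective (kerV H' U) γ
    obtain ⟨i, hi⟩ := hgen' b
    have hbT : (h ^ i)⁻¹ * b ∈ T.subgroupOf H' := by
      rw [← hφker, MonoidHom.mem_ker, map_mul, map_inv, map_pow, hi, inv_mul_cancel]
    obtain ⟨m, r, hr, he⟩ := hTdec ⟨_, Subgroup.mem_subgroupOf.1 hbT⟩
    change π ((h ^ i)⁻¹ * b) = _ at he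
    refine ⟨i, m, π (ιT r), ⟨r, hr, rfl⟩, ?_⟩
    rw [mul_assoc, ← he, map_mul, map_inv, map_pow, mul_inv_cancel_left]
  · rw [hco]
    have hsT : h ^ σ ∈ T.subgroupOf H' := by
      rw [← hφker, MonoidHom.mem_ker, map_pow, ← hho, pow_orderOf_eq_one]
    obtain ⟨m, r, hr, he⟩ := hTdec ⟨_, Subgroup.mem_subgroupOf.1 hsT⟩
    change π (h ^ σ) = _ at he
    refine ⟨m, π (ιT r), ⟨r, hr, rfl⟩, ?_⟩
    rw [← map_pow, he, ((hxT r).pow_left m).eq]
  · rw [hco]
    exact lt_of_le_of_lt (Nat.mul_le_mul_left _ hkR) (not_le.1 hsmall)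

end Cfsg.Agent.Solv.ClassLower
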