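import Cfsg.Agent.Lib.Char.FongStep
import Cfsg.Agent.Lib.Char.LinearExt
import Cfsg.Agent.Lib.Char.RelGlaubermanCentral

/-!
Counting the irreducible characters over the faithful characters of a cyclic section of a normal
subgroup.
-/

set_option autoImplicit false
set_option linter.unusedSectionVars false
set_option linter.style.haveILetI false

namespace Cfsg.Agent.Solv.ClassLower

open Cfsg Cfsg.Agent.Char
open scoped ComplexConjugate

universe u

/-- Characters over faithful characters of a cyclic section are many. -/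
theorem count_bound {H : Type u} [Group H] [Finite H] (P : Subgroup H) [hPn : P.Normal]
    (K : Subgroup H) {N : ℕ} [NeZero N] (hN : 1 < N) (μ : P →* ℂˣ)
    (hker : ∀ y : P, μ y = 1 ↔ (y : H) ∈ K) (g₀ : P) (hord : orderOf (μ g₀) = N)
    (hμN : ∀ y, μ y ^ N = 1) (T H' : Subgroup H)
    (hT : ∀ h, h ∈ T ↔ ∀ y ∈ P, h * y * h⁻¹ * y⁻¹ ∈ K)
    (hH' : ∀ h, (∀ y ∈ P, (y ∈ K ↔ h * y * h⁻¹ ∈ K)) → h ∈ H') (hPT : P ≤ T)
    (hcop : (P.subgroupOf T).index.Coprime N) :
    N.totient * Nat.card (ConjClasses (T ⧸ P.subgroupOf T)) ≤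
      (T.subgroupOf H').index * (Nat.card (ConjClasses H) - 1) := by
  classical
  haveI := Fintype.ofFinite H
  haveI := Fintype.ofFinite P
  haveI := Fintype.ofFinite T
  haveI : (P.subgroupOf T).Normal := hPn.comap T.subtype
  haveI := Fintype.ofFinite (T ⧸ P.subgroupOf T)
  -- powers of `μ` prime to `N`
  let ν : (ZMod N)ˣ → (P →* ℂˣ) := fun j => μ ^ (j : ZMod N).val
  have hνker : ∀ (j : (ZMod N)ˣ) (y : P), ν j y = 1 ↔ (y : H) ∈ K := by
    intro j y
    rw [← hker, MonoidHom.pow_apply]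
    refine ⟨fun h => ?_, fun h => by rw [h, one_pow]⟩
    have h2 : μ y ^ Nat.gcd (j : ZMod N).val N = 1 := pow_gcd_eq_one.2 ⟨h, hμN y⟩
    rwa [(ZMod.val_coe_unit_coprime j).gcd_eq_one, pow_one] at h2
  have hνinj : Function.Injective ν := fun i j h => by
    refine Units.ext (ZMod.val_injective N ?_)
    have h1 := DFunLike.congr_fun h g₀
    rw [MonoidHom.pow_apply, MonoidHom.pow_apply, pow_inj_mod, hord, Nat.mod_eq_of_lt (ZMod.val_lt _),
      Nat.mod_eq_of_lt (ZMod.val_lt _)] at h1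
    exact h1
  have hνconj : ∀ (j : (ZMod N)ˣ) (h : H), h ∈ T → ∀ y : P, ν j (MulAut.conjNormal h y) = ν j y := by
    intro j h hh y
    have h1 : ν j (MulAut.conjNormal h y * y⁻¹) = 1 := (hνker j _).2 (by
      rw [Subgroup.coe_mul, MulAut.conjNormal_apply, Subgroup.coe_inv]
      exact (hT h).1 hh y y.2)
    rwa [map_mul, map_inv, mul_inv_eq_one] at h1
  -- extensions to `T`
  let νT : (ZMod N)ˣ → (P.subgroupOf T →* ℂˣ) := fun j =>
    (ν j).comp (Subgroup.subgroupOfEquivOfLe hPT).toMonoidHom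
  have hνTcop : ∀ j, (P.subgroupOf T).index.Coprime (orderOf (νT j)) := fun j =>
    hcop.coprime_dvd_right (orderOf_dvd_of_pow_eq_one (MonoidHom.ext fun z => by
      rw [MonoidHom.pow_apply, MonoidHom.comp_apply, MonoidHom.pow_apply, ← pow_mul, mul_comm, pow_mul,
        hμN, one_pow, MonoidHom.one_apply]))
  choose θ hθ _ using fun j => exists_linear_extension_coprime (P.subgroupOf T) (νT j)
    (fun t z => by
      show ν j (Subgroup.subgroupOfEquivOfLe hPT (MulAut.conjNormal t z)) = ν j (Subgroup.subgroupOfEquivOfLe hPT z)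
      rw [← hνconj j t t.2 (Subgroup.subgroupOfEquivOfLe hPT z)]
      congr 1) (hνTcop j)
  have hθP : ∀ j (a : P), θ j (Subgroup.inclusion hPT a) = ν j a := fun j a => by
    exact hθ j ⟨Subgroup.inclusion hPT a, a.2⟩
  let D := (ZMod N)ˣ × IrrCharacter (T ⧸ P.subgroupOf T)
  let ψ : D → IrrCharacter T := fun d => ⟨fun t => (θ d.1 t : ℂ) * (d.2 : T ⧸ P.subgroupOf T → ℂ) (QuotientGroup.mk' (P.subgroupOf T) t),
    Cfsg.Agent.Char.isIrr_linear_mul (isIrr_comp_surjective _ (QuotientGroup.mk'_surjective _) d.2.2) (θ d.1)⟩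
  let νc : (ZMod N)ˣ → IrrCharacter P := fun j => ⟨fun a => (ν j a : ℂ), isIrrCharacter_linear (ν j)⟩
  have hψP : ∀ (d : D) (a : P), (ψ d : T → ℂ) (Subgroup.inclusion hPT a) =
      (d.2 : T ⧸ P.subgroupOf T → ℂ) 1 * (νc d.1 : P → ℂ) a := fun d a => by
    show (θ d.1 _ : ℂ) * _ = _ * (ν d.1 a : ℂ)
    rw [hθP, mul_comm]
    congr 1
    exact congrArg (d.2 : T ⧸ P.subgroupOf T → ℂ) ((QuotientGroup.eq_one_iff _).2 a.2)
  have hψne : ∀ d : D, classInner (fun a : P => (ψ d : T → ℂ) (Subgroup.inclusion hPT a)) (νc d.1 : P → ℂ) ≠ 0 := by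
    intro d
    rw [show (fun a : P => (ψ d : T → ℂ) (Subgroup.inclusion hPT a)) =
      ((d.2 : T ⧸ P.subgroupOf T → ℂ) 1) • (νc d.1 : P → ℂ) from funext (hψP d), classInner_smul_left,
      irr_self (νc d.1).2, mul_one]
    exact irr_one_ne_zero d.2.2
  have hinert : ∀ (j : (ZMod N)ˣ) (g : H), g ∈ T ↔ irrComp (MulAut.conjNormal g) (νc j) = νc j := by
    intro j g
    constructor
    · intro hg
      exact Subtype.ext (funext fun a => by
        rw [irrComp_apply]; exact congrArg Units.val (hνconj j g hg a))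
    · intro he
      rw [hT]
      intro y hy
      have h1 : ν j (MulAut.conjNormal g ⟨y, hy⟩) = ν j ⟨y, hy⟩ :=
        Units.ext (congrFun (congrArg Subtype.val he) ⟨y, hy⟩)
      have h2 := (hνker j (MulAut.conjNormal g ⟨y, hy⟩ * ⟨y, hy⟩⁻¹)).1 (by
        rw [map_mul, map_inv, h1, mul_inv_cancel])
      simpa [MulAut.conjNormal_apply] using h2
  have hcl := fun d : D => Fong.clifford_ind P T hPT (νc d.1) (hinert d.1) (ψ d) (hψne d)
  let Φ : D → IrrCharacter H := fun d => ⟨indFun T (ψ d : T → ℂ), (hcl d).1⟩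
  -- meeting characters are conjugate
  have hmeet : ∀ d e : D, Φ d = Φ e → ∃ g ∈ H', ∀ a : P, ν d.1 (MulAut.conjNormal g a) = ν e.1 a := by
    intro d e hde
    have h1 := Fong.inner_ne_zero_of_constituent (Subgroup.inclusion hPT)
      (isCharacter_comp T.subtype (irr_isCharacter (Φ d).2)) (ψ e) (νc e.1) (by
        rw [hde]
        show classInner (fun t : T => indFun T (ψ e : T → ℂ) t) (ψ e : T → ℂ) ≠ 0
        rw [(hcl e).2 (ψ e) (hψne e), if_pos rfl]
        exact one_ne_zero) (hψne e)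
    by_contra hno
    push Not at hno
    refine h1 ?_
    have hval : ∀ a : P, indFun T (ψ d : T → ℂ) (a : H) = (Nat.card T : ℂ)⁻¹ *
        ∑ g : H, (d.2 : T ⧸ P.subgroupOf T → ℂ) 1 * (irrComp (MulAut.conjNormal g) (νc d.1) : P → ℂ) a := by
      intro a
      rw [indFun]
      congr 1
      refine Fintype.sum_equiv (Equiv.inv H) _ _ fun g => ?_
      have hm : g⁻¹ * (a : H) * g ∈ T := hPT (by simpa using hPn.conj_mem a a.2 g⁻¹)
      rw [extendByZero_mem T _ hm, irrComp_apply, ← hψP]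
      refine congrArg _ (Subtype.ext ?_)
      simp [MulAut.conjNormal_apply]
    show classInner (fun a : P => indFun T (ψ d : T → ℂ) (a : H)) (νc e.1 : P → ℂ) = 0
    rw [show (fun a : P => indFun T (ψ d : T → ℂ) (a : H)) =
      ((Nat.card T : ℂ)⁻¹ * (d.2 : T ⧸ P.subgroupOf T → ℂ) 1) •
        ∑ g : H, (irrComp (MulAut.conjNormal g) (νc d.1) : P → ℂ) from funext fun a => by
      rw [hval, Pi.smul_apply, smul_eq_mul, Finset.sum_apply, Finset.mul_sum, Finset.mul_sum]
      exact Finset.sum_congr rfl fun g _ => by ring,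
      classInner_smul_left, classInner_sum_left, Finset.sum_eq_zero, mul_zero]
    intro g _
    rw [irrC_orth, if_neg]
    intro he
    have hg : ∀ a : P, ν d.1 (MulAut.conjNormal g a) = ν e.1 a := fun a =>
      Units.ext (congrFun (congrArg Subtype.val he) a)
    refine (hno g (hH' g fun y hy => ?_)).elim fun a ha => ha (hg a)
    rw [show y ∈ K ↔ ν e.1 ⟨y, hy⟩ = 1 from (hνker e.1 ⟨y, hy⟩).symm, ← hg, hνker, MulAut.conjNormal_apply]
  -- the trivial character is not met
  have hone : ∀ d : D, (Φ d : H → ℂ) ≠ fun _ => 1 := by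
    intro d h
    have h1 := (hcl d).2 (ψ d) (hψne d)
    rw [if_pos rfl, show (fun t : T => indFun T (ψ d : T → ℂ) t) = fun _ => (1 : ℂ) from
      funext fun t => congrFun h (t : H), irr_orth isIrrCharacter_one (ψ d).2] at h1
    split_ifs at h1 with h2
    · have h3 := congrFun h2 (Subgroup.inclusion hPT g₀)
      have h4 := congrFun h2 (Subgroup.inclusion hPT 1)
      rw [hψP] at h3 h4
      have h5 : ((νc d.1 : P → ℂ) 1) = 1 := by
        show (ν d.1 1 : ℂ) = 1
        rw [map_one, Units.val_one]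
      rw [h5, mul_one] at h4
      rw [← h4, one_mul] at h3
      have h6 : ν d.1 g₀ = 1 := Units.ext h3.symm
      rw [hνker, ← hker, ← orderOf_eq_one_iff, hord] at h6
      omega
    · exact zero_ne_one h1
  -- the injection
  let rep : IrrCharacter H → D := fun χ => if h : ∃ d, Φ d = χ then h.choose else (1, ⟨fun _ => 1, isIrrCharacter_one⟩)
  have hrep : ∀ d, Φ d = Φ (rep (Φ d)) := fun d => by
    have h : ∃ e, Φ e = Φ d := ⟨d, rfl⟩
    simp only [rep, dif_pos h]
    exact h.choose_spec.symm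
  choose gg hgg hggν using fun d => hmeet d (rep (Φ d)) (hrep d)
  let triv : IrrCharacter H := ⟨fun _ => 1, isIrrCharacter_one⟩
  let Inj : D → (H' ⧸ T.subgroupOf H') × {χ : IrrCharacter H // χ ≠ triv} := fun d =>
    (((⟨gg d, hgg d⟩ : H') : H' ⧸ T.subgroupOf H'), ⟨Φ d, fun h => hone d (congrArg Subtype.val h)⟩)
  have hInj : Function.Injective Inj := by
    intro d e h
    have hΦ : Φ d = Φ e := congrArg Subtype.val (congrArg Prod.snd h)
    have hcos := QuotientGroup.eq.1 (congrArg Prod.fst h)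
    rw [Subgroup.mem_subgroupOf] at hcos
    have hν : ν d.1 = ν e.1 := MonoidHom.ext fun a => by
      obtain ⟨b, rfl⟩ := (MulAut.conjNormal (gg d)).surjective a
      obtain ⟨t, ht⟩ : ∃ t, t = (gg d)⁻¹ * gg e := ⟨_, rfl⟩
      have htT : t ∈ T := ht ▸ (by simpa using hcos)
      have hge : gg e = gg d * t := by rw [ht]; group
      obtain ⟨b', rfl⟩ := (MulAut.conjNormal t).surjective b
      rw [hggν d, hΦ, hνconj _ t htT, ← hggν e, hge, map_mul, MulAut.mul_apply]
    have h1 : d.1 = e.1 := hνinj hν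
    have h2 : ψ d = ψ e := by
      by_contra hne
      have ha := (hcl d).2 (ψ e) (by rw [h1]; exact hψne e)
      rw [if_neg hne] at ha
      have hb := (hcl e).2 (ψ e) (hψne e)
      rw [if_pos rfl] at hb
      rw [show indFun T (ψ d : T → ℂ) = indFun T (ψ e : T → ℂ) from congrArg Subtype.val hΦ, hb] at ha
      exact one_ne_zero ha
    refine Prod.ext h1 (Subtype.ext (funext fun x => ?_))
    obtain ⟨t, rfl⟩ := QuotientGroup.mk'_surjective (P.subgroupOf T) x
    have h3 := congrFun (congrArg Subtype.val h2) t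
    simp only [ψ, h1] at h3
    exact mul_left_cancel₀ (Units.ne_zero _) h3
  have h := Nat.card_le_card_of_injective Inj hInj
  rw [Nat.card_prod, Nat.card_prod, card_irr, ← Subgroup.index_eq_card,
    Nat.card_eq_fintype_card (α := (ZMod N)ˣ), ZMod.card_units_eq_totient] at h
  refine h.trans (Nat.mul_le_mul_left _ ?_)
  rw [Nat.card_eq_fintype_card, Fintype.card_subtype_compl, Fintype.card_subtype_eq,
    ← Nat.card_eq_fintype_card, card_irr]

end Cfsg.Agent.Solv.ClassLower
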