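import Mathlib

/-!
Endomorphism fields of pairwise nonisomorphic simple modules are bounded by the class number.
-/

set_option autoImplicit false
set_option linter.unusedSectionVars false
set_option linter.style.haveILetI false

namespace Cfsg.Agent.Solv.ClassLower

open Module

variable {F R V : Type*} [Field F] [Group R] [Finite R] [AddCommGroup V] [Finite V]
  [Module (MonoidAlgebra F R) V] [Module F V] [IsScalarTower F (MonoidAlgebra F R) V]

local notation "A" => MonoidAlgebra F R

/-- The action of a group-algebra element, linear over the commutant. -/
noncomputable def actEnd (U : Submodule A V) (r : A) : Module.End (Module.End A U) U where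
  toFun u := r • u
  map_add' := smul_add r
  map_smul' e u := (map_smul e r u).symm

/-- A tuple of operators, each commuting with the commutant, is realised by the group algebra. -/
theorem exists_act {ι : Type*} [Fintype ι] (U : ι → Submodule A V) [∀ i, IsSimpleModule A (U i)]
    (hne : ∀ i i', i ≠ i' → IsEmpty (U i ≃ₗ[A] U i'))
    (T : ∀ i, Module.End (Module.End A (U i)) (U i)) : ∃ r : A, ∀ i, T i = actEnd (U i) r := by
  classical
  let f : Module.End (Module.End A (∀ i, U i)) (∀ i, U i) :=
    { toFun := fun x i => T i (x i)
      map_add' := fun x y => funext fun i => map_add (T i) _ _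
      map_smul' := fun φ x => funext fun i => by
        have hsum : ∀ y : ∀ i, U i,
            (φ y) i = ((LinearMap.proj i).comp (φ.comp (LinearMap.single A _ i))) (y i) := by
          intro y
          conv_lhs => rw [← Finset.univ_sum_single y, map_sum, Finset.sum_apply]
          refine Finset.sum_eq_single i (fun k _ hk => ?_) (fun h => absurd (Finset.mem_univ i) h)
          rcases LinearMap.bijective_or_eq_zero
            ((LinearMap.proj i).comp (φ.comp (LinearMap.single A _ k))) with h | h
          · exact ((hne k i hk).false (LinearEquiv.ofBijective _ h)).elim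
          · exact LinearMap.congr_fun h (y k)
        show T i ((φ • x : ∀ i, U i) i) = (φ • fun i => T i (x i) : ∀ i, U i) i
        rw [Module.End.smul_def, Module.End.smul_def, hsum, hsum]
        exact map_smul (T i) _ _ }
  haveI := Fintype.ofFinite (∀ i, U i)
  obtain ⟨r, hr⟩ := jacobson_density f Finset.univ
  refine ⟨r, fun i => LinearMap.ext fun u => ?_⟩
  have h := congrFun (hr (Pi.single i u) (Finset.mem_univ _)) i
  simpa [f, actEnd] using h

/-- The total degree of the endomorphism fields of nonisomorphic simple modules is at most the
number of classes. -/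
theorem sum_finrank_end_le {ι : Type*} [Fintype ι] (U : ι → Submodule A V)
    [∀ i, IsSimpleModule A (U i)] (hne : ∀ i i', i ≠ i' → IsEmpty (U i ≃ₗ[A] U i')) :
    ∑ i, Module.finrank F (Module.End A (U i)) ≤ Nat.card (ConjClasses R) := by
  classical
  haveI := Fintype.ofFinite (ConjClasses R)
  haveI : Finite R := inferInstance
  haveI : ∀ i, Finite (Module.End A (U i)) := fun i =>
    Finite.of_injective (fun f : Module.End A (U i) => (f : U i → U i)) DFunLike.coe_injective
  letI : ∀ i, Field (Module.End A (U i)) := fun i => littleWedderburn _
  let tr : ∀ i, Module.End (Module.End A (U i)) (U i) →ₗ[Module.End A (U i)] Module.End A (U i) :=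
    fun i => LinearMap.trace (Module.End A (U i)) (U i)
  let Ψ : A →ₗ[F] ∀ i, Module.End A (U i) :=
    { toFun := fun r i => tr i (actEnd (U i) r)
      map_add' := fun r r' => funext fun i => by
        rw [Pi.add_apply, ← map_add]
        congr 1
        exact LinearMap.ext fun u => add_smul r r' u
      map_smul' := fun a r => funext fun i => by
        have h1 : actEnd (U i) (a • r) = (algebraMap F (Module.End A (U i)) a) • actEnd (U i) r :=
          LinearMap.ext fun u => smul_assoc a r u
        show tr i (actEnd (U i) (a • r)) = a • tr i (actEnd (U i) r)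
        rw [h1, map_smul, Algebra.smul_def a (tr i (actEnd (U i) r))]
        rfl }
  let g : R → ∀ i, Module.End A (U i) := fun x => Ψ (MonoidAlgebra.of F R x)
  have hconj : ∀ x y : R, IsConj x y → g x = g y := by
    intro x y hxy
    obtain ⟨z, rfl⟩ := isConj_iff.1 hxy
    funext i
    have hm : ∀ a b : A, actEnd (U i) (a * b) = actEnd (U i) a * actEnd (U i) b := fun a b =>
      LinearMap.ext fun u => mul_smul a b u
    show tr i _ = tr i _
    rw [map_mul (MonoidAlgebra.of F R) (z * x) z⁻¹, map_mul (MonoidAlgebra.of F R) z x, hm,
      LinearMap.trace_mul_comm, ← hm, ← mul_assoc, ← map_mul, ← map_mul, inv_mul_cancel, one_mul]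
  let c : ConjClasses R → ∀ i, Module.End A (U i) := Quotient.lift g hconj
  have htop : Submodule.span F (Set.range c) = ⊤ := by
    rw [eq_top_iff]
    intro e _
    have hT : ∀ i, ∃ T : Module.End (Module.End A (U i)) (U i), tr i T = e i := fun i => by
      haveI : Nontrivial (U i) := IsSimpleModule.nontrivial A (U i)
      let b := Module.Free.chooseBasis (Module.End A (U i)) (U i)
      obtain ⟨k⟩ : Nonempty (Module.Free.ChooseBasisIndex (Module.End A (U i)) (U i)) :=
        b.index_nonempty
      refine ⟨e i • (b.coord k).smulRight (b k), ?_⟩
      rw [map_smul, LinearMap.trace_smulRight]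
      simp
    choose T hT using hT
    obtain ⟨r, hr⟩ := exists_act U hne T
    have he : e = Ψ r := funext fun i => by
      rw [← hT i, hr i]
      rfl
    rw [he]
    clear he hr
    induction r using MonoidAlgebra.induction_on with
    | of x => exact Submodule.subset_span ⟨ConjClasses.mk x, rfl⟩
    | add a b ha hb => rw [map_add]; exact add_mem ha hb
    | smul a b hb => rw [map_smul]; exact Submodule.smul_mem _ a hb
  have h := finrank_range_le_card (R := F) c
  rw [Set.finrank, htop, finrank_top, Module.finrank_pi_fintype, ← Nat.card_eq_fintype_card] at h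
  exact h

end Cfsg.Agent.Solv.ClassLower
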