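import Cfsg.Agent.Lib.Solv.ClassLower.Eigen
import Cfsg.Agent.Lib.Solv.ClassLower.EndCount

/-!
Many orbits when an element normalising a group with few classes induces a large power map on a
central fixed-point-free element.
-/

set_option autoImplicit false
set_option linter.unusedSectionVars false
set_option linter.style.haveILetI false

namespace Cfsg.Agent.Solv.ClassLower

theorem arith_growth {l Y : ℕ} (hl : 5 ≤ l) (hY : 3 * l ≤ Y) :
    2 ^ (2 * l + 3) * Y + 3 * l < 3 * l * 2 ^ Y := by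
  induction Y, hY using Nat.le_induction with
  | base =>
    have h1 : 2 ^ (2 * l + 3) * 2 ≤ 2 ^ (3 * l) := by
      rw [← pow_succ]; exact Nat.pow_le_pow_right two_pos (by omega)
    have h2 : 2 ≤ 2 ^ (2 * l + 3) := Nat.le_self_pow (by omega) 2
    nlinarith
  | succ Y hY ih =>
    have h2 : 3 * l ≤ Y := hY
    have h3 : 2 ^ (2 * l + 3) ≤ 2 ^ (2 * l + 3) * Y := Nat.le_mul_of_pos_right _ (by omega)
    rw [pow_succ 2 Y]
    nlinarith

theorem arith_core {q e X s o p l : ℕ} (hq : 2 ≤ q) (he : 1 ≤ e) (hl : 5 ≤ l) (hs : 3 * l * e < s)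
    (hX : s ≤ X) (hp : p < 2 ^ (l + 1)) (hcount : q ^ X ≤ o * (s * p) * q ^ e + 1) : p ≤ 3 * l * o := by
  by_contra hlt
  push Not at hlt
  have hle : e ≤ 3 * l * e := Nat.le_mul_of_pos_left e (by omega)
  obtain ⟨Y, rfl⟩ : ∃ Y, X = e + Y := ⟨X - e, by omega⟩
  have h3e : 2 * e ≤ 3 * l * e := Nat.mul_le_mul_right e (by omega)
  have h3l : 3 * l + e ≤ 3 * l * e + 1 := by nlinarith
  have hY : 3 * l ≤ Y := by omega
  have hsY : s ≤ 2 * Y := by omega
  have hqe : 1 ≤ q ^ e := Nat.one_le_pow _ _ (by omega)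
  have h1 : q ^ Y ≤ o * (s * p) + 1 := by
    refine Nat.le_of_mul_le_mul_left ?_ hqe
    rw [← pow_add, Nat.mul_add, mul_comm (q ^ e) (o * (s * p)), mul_one]
    omega
  have h2 : 2 ^ Y ≤ q ^ Y := Nat.pow_le_pow_left hq Y
  have h3 : 3 * l * (o * (s * p)) ≤ 2 ^ (2 * l + 3) * Y := by
    calc 3 * l * (o * (s * p)) = (3 * l * o) * p * s := by ring
      _ ≤ 2 ^ (l + 1) * 2 ^ (l + 1) * (2 * Y) := by gcongr; omega
      _ = 2 ^ (2 * l + 3) * Y := by ring
  have := arith_growth hl hY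
  nlinarith

variable {Γ V : Type*} [Group Γ] [Finite Γ] [AddCommGroup V] [Finite V] [DistribMulAction Γ V]
variable {q : ℕ} [Fact q.Prime] [Module (ZMod q) V] (R : Subgroup Γ)

/-- The representation of the subgroup over the prime field. -/
noncomputable def rep : Representation (ZMod q) R V where
  toFun g := (DistribMulAction.toAddMonoidEnd Γ V (g : Γ)).toZModLinearMap q
  map_one' := LinearMap.ext fun v => one_smul Γ v
  map_mul' a b := LinearMap.ext fun v => mul_smul (a : Γ) b v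

/-- The group algebra acts. -/
@[reducible] noncomputable def algModule : Module (MonoidAlgebra (ZMod q) R) V :=
  Module.compHom V (rep (q := q) (V := V) R).asAlgebraHom.toRingHom

theorem of_smul (g : R) (v : V) :
    letI := algModule (q := q) (V := V) R
    MonoidAlgebra.of (ZMod q) R g • v = (g : Γ) • v := by
  show (rep (q := q) (V := V) R).asAlgebraHom (MonoidAlgebra.of (ZMod q) R g) v = _
  rw [Representation.asAlgebraHom_of]
  rfl

theorem algTower :
    letI := algModule (q := q) (V := V) R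
    IsScalarTower (ZMod q) (MonoidAlgebra (ZMod q) R) V := by
  letI := algModule (q := q) (V := V) R
  refine ⟨fun a r v => ?_⟩
  show (rep (q := q) (V := V) R).asAlgebraHom (a • r) v = a • (rep (q := q) (V := V) R).asAlgebraHom r v
  rw [map_smul]
  rfl

section twist

variable {R} [Module (MonoidAlgebra (ZMod q) R) V] [IsScalarTower (ZMod q) (MonoidAlgebra (ZMod q) R) V]
  (hof : ∀ (g : R) (v : V), MonoidAlgebra.of (ZMod q) R g • v = (g : Γ) • v)

include hof

omit [Finite Γ] [Finite V] in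
/-- Additive maps between submodules commuting with the group are linear over the algebra. -/
theorem smul_comm_of_group {U : Submodule (MonoidAlgebra (ZMod q) R) V} (f : U →+ V)
    (hf : ∀ (g : R) (u : U), f ((MonoidAlgebra.of (ZMod q) R g) • u) = (g : Γ) • f u) (r : (MonoidAlgebra (ZMod q) R)) (u : U) :
    f (r • u) = r • f u := by
  induction r using MonoidAlgebra.induction_on with
  | of g => rw [hf, hof]
  | add a b ha hb => rw [add_smul, add_smul, map_add, ha, hb]
  | smul c a ha =>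
    rw [smul_assoc, smul_assoc, ← ha]
    conv_lhs => rw [← ZMod.natCast_zmod_val c, Nat.cast_smul_eq_nsmul, map_nsmul]
    rw [← Nat.cast_smul_eq_nsmul (ZMod q), ZMod.natCast_zmod_val]

omit [Finite Γ] [Finite V] in
/-- The translate of a submodule by an element normalising the subgroup. -/
def tw (hR : R.Normal) (γ : Γ) (U : Submodule (MonoidAlgebra (ZMod q) R) V) : Submodule (MonoidAlgebra (ZMod q) R) V where
  carrier := {v | γ⁻¹ • v ∈ U}
  zero_mem' := by simp
  add_mem' := fun {a b} ha hb => by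
    show γ⁻¹ • (a + b) ∈ U
    rw [smul_add]; exact add_mem ha hb
  smul_mem' := fun r v hv => by
    show γ⁻¹ • (r • v) ∈ U
    induction r using MonoidAlgebra.induction_on with
    | of g =>
      have h := U.smul_mem (MonoidAlgebra.of (ZMod q) R ⟨γ⁻¹ * g * γ, by simpa using hR.conj_mem g g.2 γ⁻¹⟩) hv
      rw [hof] at h ⊢
      rw [← mul_smul] at h ⊢
      simpa [mul_assoc] using h
    | add a b ha hb => rw [add_smul, smul_add]; exact add_mem ha hb
    | smul c a ha =>
      rw [smul_assoc, ← ZMod.natCast_zmod_val c, Nat.cast_smul_eq_nsmul, smul_comm]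
      exact nsmul_mem ha _

variable (hR : R.Normal)

omit [Finite Γ] [Finite V] in
theorem mem_tw {γ : Γ} {U : Submodule (MonoidAlgebra (ZMod q) R) V} {v : V} : v ∈ tw hof hR γ U ↔ γ⁻¹ • v ∈ U := Iff.rfl

omit [Finite Γ] [Finite V] in
theorem tw_mul (γ δ : Γ) (U : Submodule (MonoidAlgebra (ZMod q) R) V) : tw hof hR (γ * δ) U = tw hof hR γ (tw hof hR δ U) := by
  ext v
  rw [mem_tw, mem_tw, mem_tw, ← mul_smul, mul_inv_rev]

omit [Finite Γ] [Finite V] in
theorem tw_one (U : Submodule (MonoidAlgebra (ZMod q) R) V) : tw hof hR 1 U = U := by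
  ext v
  rw [mem_tw, inv_one, one_smul]

omit [Finite Γ] [Finite V] in
theorem tw_mem (γ : Γ) {U : Submodule (MonoidAlgebra (ZMod q) R) V} {v : V} (hv : v ∈ U) : γ • v ∈ tw hof hR γ U := by
  rw [mem_tw, inv_smul_smul]; exact hv

omit [Finite Γ] [Finite V] in
/-- Translation as an additive equivalence. -/
def twE (γ : Γ) (U : Submodule (MonoidAlgebra (ZMod q) R) V) : U ≃+ tw hof hR γ U where
  toFun u := ⟨γ • (u : V), tw_mem hof hR γ u.2⟩
  invFun v := ⟨γ⁻¹ • (v : V), v.2⟩
  left_inv u := Subtype.ext (inv_smul_smul γ (u : V))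
  right_inv v := Subtype.ext (smul_inv_smul γ (v : V))
  map_add' u v := Subtype.ext (smul_add γ (u : V) (v : V))

omit [Finite Γ] [Finite V] in
theorem isSimple_tw (γ : Γ) {U : Submodule (MonoidAlgebra (ZMod q) R) V} (hU : IsSimpleModule (MonoidAlgebra (ZMod q) R) U) :
    IsSimpleModule (MonoidAlgebra (ZMod q) R) (tw hof hR γ U) := by
  rw [isSimpleModule_iff_isAtom] at hU ⊢
  refine ⟨fun h => hU.1 ?_, fun W hW => ?_⟩
  · rw [← tw_one hof hR U, ← inv_mul_cancel γ, tw_mul, h]
    ext v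
    simp [mem_tw, smul_eq_zero_iff_eq]
  · have h1 : tw hof hR γ⁻¹ W < U := by
      refine lt_of_le_of_ne (fun v hv => ?_) fun h => hW.ne ?_
      · have h2 := hW.le ((mem_tw hof hR).1 hv)
        rw [mem_tw, inv_inv, inv_smul_smul] at h2
        exact h2
      · rw [← h, ← tw_mul, mul_inv_cancel, tw_one]
    rw [← tw_one hof hR W, ← mul_inv_cancel γ, tw_mul, hU.2 _ h1]
    ext v
    simp [mem_tw, smul_eq_zero_iff_eq]

omit [Finite Γ] [Finite V] in
/-- An equivalence of submodules transported by translation. -/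
theorem nonempty_tw_equiv (γ : Γ) {U W : Submodule (MonoidAlgebra (ZMod q) R) V} (e : U ≃ₗ[(MonoidAlgebra (ZMod q) R)] W) :
    Nonempty (tw hof hR γ U ≃ₗ[(MonoidAlgebra (ZMod q) R)] tw hof hR γ W) := by
  let f : tw hof hR γ U ≃+ tw hof hR γ W :=
    (twE hof hR γ U).symm.trans (e.toAddEquiv.trans (twE hof hR γ W))
  refine ⟨f.toLinearEquiv fun r v => Subtype.ext ?_⟩
  have h := smul_comm_of_group hof ((tw hof hR γ W).subtype.toAddMonoidHom.comp f.toAddMonoidHom)
    (fun g u => ?_) r v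
  · exact h
  · show γ • ((e ⟨γ⁻¹ • ((MonoidAlgebra.of (ZMod q) R g • u : tw hof hR γ U) : V), _⟩ : W) : V) =
      (g : Γ) • γ • ((e ⟨γ⁻¹ • (u : V), u.2⟩ : W) : V)
    have hg : γ⁻¹ * (g : Γ) * γ ∈ R := by simpa using hR.conj_mem g g.2 γ⁻¹
    have hu : (⟨γ⁻¹ • ((MonoidAlgebra.of (ZMod q) R g • u : tw hof hR γ U) : V),
        (MonoidAlgebra.of (ZMod q) R g • u).2⟩ : U) = MonoidAlgebra.of (ZMod q) R ⟨_, hg⟩ • ⟨γ⁻¹ • (u : V), u.2⟩ :=
      Subtype.ext (by
        show γ⁻¹ • (MonoidAlgebra.of (ZMod q) R g • (u : V)) = MonoidAlgebra.of (ZMod q) R ⟨_, hg⟩ • (γ⁻¹ • (u : V))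
        rw [hof, hof, ← mul_smul, ← mul_smul]; simp [mul_assoc])
    rw [hu, map_smul]
    show γ • (MonoidAlgebra.of (ZMod q) R ⟨_, hg⟩ • ((e ⟨γ⁻¹ • (u : V), u.2⟩ : W) : V)) = _
    rw [hof, ← mul_smul, ← mul_smul]
    simp [mul_assoc]

omit [Finite Γ] in
theorem card_end_tw (γ : Γ) (U : Submodule (MonoidAlgebra (ZMod q) R) V) :
    Nat.card (Module.End (MonoidAlgebra (ZMod q) R) (tw hof hR γ U)) = Nat.card (Module.End (MonoidAlgebra (ZMod q) R) U) := by
  have key : ∀ (γ : Γ) (U W : Submodule (MonoidAlgebra (ZMod q) R) V), W = tw hof hR γ U →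
      Nat.card (Module.End (MonoidAlgebra (ZMod q) R) U) ≤ Nat.card (Module.End (MonoidAlgebra (ZMod q) R) W) := by
    intro γ U W hW
    subst hW
    haveI : Finite (Module.End (MonoidAlgebra (ZMod q) R) (tw hof hR γ U)) := Finite.of_injective
      (fun f : Module.End (MonoidAlgebra (ZMod q) R) (tw hof hR γ U) => (f : tw hof hR γ U → tw hof hR γ U)) DFunLike.coe_injective
    have hlin : ∀ (φ : Module.End (MonoidAlgebra (ZMod q) R) U) (r : (MonoidAlgebra (ZMod q) R)) (v : tw hof hR γ U),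
        (twE hof hR γ U) (φ ((twE hof hR γ U).symm (r • v))) = r • (twE hof hR γ U) (φ ((twE hof hR γ U).symm v)) := by
      intro φ r v
      refine Subtype.ext ?_
      refine smul_comm_of_group hof ((tw hof hR γ U).subtype.toAddMonoidHom.comp
        (((twE hof hR γ U).toAddMonoidHom.comp φ.toAddMonoidHom).comp (twE hof hR γ U).symm.toAddMonoidHom))
        (fun g u => ?_) r v
      show γ • ((φ ⟨γ⁻¹ • ((MonoidAlgebra.of (ZMod q) R g • u : tw hof hR γ U) : V), _⟩ : U) : V) =
        (g : Γ) • γ • ((φ ⟨γ⁻¹ • (u : V), u.2⟩ : U) : V)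
      have hg : γ⁻¹ * (g : Γ) * γ ∈ R := by simpa using hR.conj_mem g g.2 γ⁻¹
      have hu : (⟨γ⁻¹ • ((MonoidAlgebra.of (ZMod q) R g • u : tw hof hR γ U) : V),
          (MonoidAlgebra.of (ZMod q) R g • u).2⟩ : U) = MonoidAlgebra.of (ZMod q) R ⟨_, hg⟩ • ⟨γ⁻¹ • (u : V), u.2⟩ :=
        Subtype.ext (by
          show γ⁻¹ • (MonoidAlgebra.of (ZMod q) R g • (u : V)) = MonoidAlgebra.of (ZMod q) R ⟨_, hg⟩ • (γ⁻¹ • (u : V))
          rw [hof, hof, ← mul_smul, ← mul_smul]; simp [mul_assoc])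
      rw [hu, map_smul]
      show γ • (MonoidAlgebra.of (ZMod q) R ⟨_, hg⟩ • ((φ ⟨γ⁻¹ • (u : V), u.2⟩ : U) : V)) = _
      rw [hof, ← mul_smul, ← mul_smul]
      simp [mul_assoc]
    refine Nat.card_le_card_of_injective (fun φ : Module.End (MonoidAlgebra (ZMod q) R) U =>
      ({ toFun := fun v => (twE hof hR γ U) (φ ((twE hof hR γ U).symm v))
         map_add' := fun a b => by simp
         map_smul' := hlin φ } : Module.End (MonoidAlgebra (ZMod q) R) (tw hof hR γ U))) fun φ ψ h => LinearMap.ext fun u => ?_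
    have := LinearMap.congr_fun h ((twE hof hR γ U) u)
    simpa using this
  refine le_antisymm (key γ⁻¹ _ U ?_) (key γ U _ rfl)
  rw [← tw_mul, inv_mul_cancel, tw_one]

end twist

end Cfsg.Agent.Solv.ClassLower
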