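import Mathlib

/-!
An operator conjugate to a power of itself forces a large dimension.
-/

set_option autoImplicit false
set_option linter.unusedSectionVars false
set_option linter.style.haveILetI false

namespace Cfsg.Agent.Solv.ClassLower

open Polynomial

/-- A fixed-point-free operator of order dividing a prime `p`, conjugate to its `c`-th power, lives in
dimension at least the order of `c` modulo `p`. -/
theorem orderOf_le_finrank {F W : Type*} [Field F] [AddCommGroup W] [Module F W]
    [FiniteDimensional F W] [Nontrivial W] {p : ℕ} [Fact p.Prime] (X : Module.End F W)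
    (hX : X ^ p = 1) (hfix : ∀ w : W, X w = w → w = 0) (Φ : W ≃ₗ[F] W) (c : ℕ)
    (hΦ : ∀ w : W, Φ (X w) = (X ^ c) (Φ w)) :
    orderOf (c : ZMod p) ≤ Module.finrank F W := by
  classical
  obtain ⟨m, hm⟩ : ∃ m, m = minpoly F X := ⟨_, rfl⟩
  have hint : IsIntegral F X := Algebra.IsIntegral.isIntegral X
  have hcomp : aeval X (m.comp (Polynomial.X ^ c)) = 0 := by
    have h1 : aeval X (m.comp (Polynomial.X ^ c)) = aeval (X ^ c) m := by
      rw [aeval_comp, map_pow, aeval_X]
    have h2 : (Φ.conjAlgEquiv F) X = X ^ c := LinearMap.ext fun w => by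
      rw [LinearEquiv.conjAlgEquiv_apply]
      simp only [LinearMap.comp_apply, LinearEquiv.coe_coe]
      rw [hΦ, LinearEquiv.apply_symm_apply]
    rw [h1, ← h2, aeval_algEquiv, AlgHom.comp_apply, hm, minpoly.aeval, map_zero]
  have hdvd : m ∣ m.comp (Polynomial.X ^ c) := by rw [hm] at hcomp ⊢; exact minpoly.dvd F X hcomp
  have hm0 : m ≠ 0 := hm ▸ minpoly.ne_zero hint
  have hdeg : 0 < m.natDegree := hm ▸ minpoly.natDegree_pos hint
  have hXp : m ∣ Polynomial.X ^ p - 1 := by
    rw [hm]
    refine minpoly.dvd F X ?_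
    rw [map_sub, map_pow, aeval_X, map_one, hX, sub_self]
  -- one is not a root
  have h1 : m.eval 1 ≠ 0 := by
    intro h0
    obtain ⟨g, hg⟩ := dvd_iff_isRoot.2 h0
    have hgz : aeval X g = 0 := LinearMap.ext fun w => by
      have h2 : aeval X m = 0 := hm ▸ minpoly.aeval F X
      rw [hg, map_mul, map_sub, aeval_X, aeval_C, map_one] at h2
      have h3 := LinearMap.congr_fun h2 w
      rw [Module.End.mul_apply, LinearMap.sub_apply, Module.End.one_apply, LinearMap.zero_apply,
        sub_eq_zero] at h3
      exact hfix _ h3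
    have hg0 : g ≠ 0 := fun h => hm0 (by rw [hg, h, mul_zero])
    have h4 : m.natDegree ≤ g.natDegree := by
      have h5 : m ∣ g := by rw [hm] at hg ⊢; exact minpoly.dvd F X hgz
      exact natDegree_le_of_dvd h5 hg0
    rw [hg, natDegree_mul (X_sub_C_ne_zero _) hg0, natDegree_X_sub_C] at h4
    omega
  -- roots in an algebraic closure
  obtain ⟨ζ, hζ⟩ := IsAlgClosed.exists_aeval_eq_zero (AlgebraicClosure F) m
    (degree_ne_of_natDegree_ne (n := 0) (by omega))
  have hζp : ζ ^ p = 1 := by
    obtain ⟨g, hg⟩ := hXp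
    have := congrArg (aeval ζ) hg
    rw [map_mul, hζ, zero_mul, map_sub, map_pow, aeval_X, map_one, sub_eq_zero] at this
    exact this
  have hζ1 : ζ ≠ 1 := by
    rintro rfl
    rw [← map_one (algebraMap F (AlgebraicClosure F)), aeval_algebraMap_apply_eq_algebraMap_eval] at hζ
    exact h1 ((map_eq_zero _).1 hζ)
  have hiter : ∀ i : ℕ, aeval (ζ ^ c ^ i) m = 0 := by
    intro i
    induction i with
    | zero => simpa using hζ
    | succ i ih =>
      obtain ⟨g, hg⟩ := hdvd
      have := congrArg (aeval (ζ ^ c ^ i)) hg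
      rw [map_mul, ih, zero_mul, aeval_comp, map_pow, aeval_X, ← pow_mul, ← pow_succ] at this
      exact this
  have hord : orderOf ζ = p := orderOf_eq_prime hζp hζ1
  have hinj : Set.InjOn (fun i : ℕ => ζ ^ c ^ i) (Set.Iio (orderOf (c : ZMod p))) := by
    intro i hi j hj hij
    refine pow_injOn_Iio_orderOf hi hj ?_
    simp only at hij
    have h2 := (orderOf_pos_iff.1 (hord.symm ▸ (Fact.out : p.Prime).pos)).pow_inj_mod.1 hij
    rw [hord] at h2
    have h3 : ((c ^ i : ℕ) : ZMod p) = (c ^ j : ℕ) := (ZMod.natCast_eq_natCast_iff' _ _ _).2 h2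
    simpa using h3
  have hcard : orderOf (c : ZMod p) ≤ (m.aroots (AlgebraicClosure F)).toFinset.card := by
    rw [← Finset.card_range (orderOf (c : ZMod p))]
    refine Finset.card_le_card_of_injOn (fun i => ζ ^ c ^ i) (fun i _ => ?_)
      (fun i hi j hj h => hinj (by simpa using hi) (by simpa using hj) h)
    rw [Finset.mem_coe, Multiset.mem_toFinset, mem_aroots]
    exact ⟨hm0, hiter i⟩
  refine hcard.trans ((Multiset.toFinset_card_le _).trans ?_)
  refine (card_roots' _).trans (natDegree_map_le.trans ?_)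
  rw [hm]
  refine (natDegree_le_of_dvd (LinearMap.minpoly_dvd_charpoly X) (LinearMap.charpoly_monic X).ne_zero).trans ?_
  rw [LinearMap.charpoly_natDegree]

end Cfsg.Agent.Solv.ClassLower
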