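import Cfsg.Agent.Lib.Solv.ClassLower.Abelian
import Cfsg.Agent.Lib.Solv.Cores

/-!
A prime dividing the index of the Fitting subgroup bounds the class number of a soluble group.
-/

set_option autoImplicit false
set_option linter.unusedSectionVars false
set_option linter.style.haveILetI false
set_option maxHeartbeats 800000

namespace Cfsg.Agent.Solv.ClassLower

open Cfsg.Agent.Solv.OddPair (kerV mem_kerV quotAct quot_smul quot_faithful subAct)

universe u

/-- A `p`-subgroup of index prime to `p` is maximal among `p`-subgroups. -/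
theorem eq_of_index_coprime {G : Type*} [Group G] [Finite G] {p : ℕ} [Fact p.Prime] {A B : Subgroup G}
    (hAB : A ≤ B) (hB : IsPGroup p B) (hA : ¬ p ∣ A.index) : A = B := by
  have hpp := (Fact.out : p.Prime)
  refine le_antisymm hAB (Subgroup.relIndex_eq_one.1 ?_)
  obtain ⟨k, hk⟩ := IsPGroup.iff_card.1 hB
  have h1 : A.relIndex B ∣ p ^ k := hk ▸ Subgroup.index_dvd_card _
  refine ((hpp.coprime_iff_not_dvd.2 fun h => hA (h.trans ?_)).symm.pow_right k).eq_one_of_dvd h1
  exact Dvd.intro _ (Subgroup.relIndex_mul_index hAB)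

/-- The counterexample with every proper quotient good is impossible. -/
theorem step {p l : ℕ} [Fact p.Prime] (hl : 5 ≤ l) (hp : p < 2 ^ (l + 1)) (h7 : 7 * (l + 1) ≤ p)
    {G : Type u} [Group G] [Finite G] [Nontrivial G] (hG : Group.IsSolvable G)
    (hdvd : p ∣ (Cfsg.fittingSubgroup G).index)
    (hquot : ∀ (N : Subgroup G) [N.Normal], N ≠ ⊥ → ¬ p ∣ (Cfsg.fittingSubgroup (G ⧸ N)).index) :
    p ≤ 3 * l * Nat.card (ConjClasses G) := by
  classical
  have hpp := (Fact.out : p.Prime)
  have hp2 : p ≠ 2 := by omega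
  obtain ⟨V₀, hV₀n, hV₀ne, hmin⟩ := Cfsg.Agent.Solv.exists_minimal_normal (G := G)
  obtain ⟨hV₀c, q, hq, hqV, hqg⟩ :=
    Cfsg.Agent.Solv.minimal_normal_elementaryAbelian V₀ inferInstance hV₀ne hmin
  haveI := Fact.mk hq
  obtain ⟨Q⟩ : Nonempty (Sylow p G) := inferInstance
  have hQidx : ¬ p ∣ (Q : Subgroup G).index := Q.not_dvd_index
  -- the Sylow subgroup is normal modulo `V₀`
  let m := QuotientGroup.mk' V₀
  have hQbar : ((Q : Subgroup G).map m).Normal := by
    have hFn := Cfsg.Agent.Solv.fittingSubgroup_normal (G := G ⧸ V₀)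
    have hFnil := Cfsg.Agent.Solv.fittingSubgroup_nilpotent (G := G ⧸ V₀)
    obtain ⟨PF⟩ : Nonempty (Sylow p (Cfsg.fittingSubgroup (G ⧸ V₀))) := inferInstance
    have h3 : ∀ (r : ℕ), Fact r.Prime → ∀ P : Sylow r (Cfsg.fittingSubgroup (G ⧸ V₀)),
        (P : Subgroup (Cfsg.fittingSubgroup (G ⧸ V₀))).Normal :=
      ((Group.isNilpotent_of_finite_tfae (G := Cfsg.fittingSubgroup (G ⧸ V₀))).out 0 3).1 hFnil
    have hPFn := h3 p inferInstance PF
    haveI := PF.characteristic_of_normal hPFn
    let X := (PF : Subgroup (Cfsg.fittingSubgroup (G ⧸ V₀))).map (Cfsg.fittingSubgroup (G ⧸ V₀)).subtype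
    have hXn : X.Normal := inferInstance
    have hXp : IsPGroup p X := PF.2.map _
    have hXidx : ¬ p ∣ X.index := by
      show ¬ p ∣ (Subgroup.map _ _).index
      rw [Subgroup.index_map_subtype]
      exact hpp.not_dvd_mul PF.not_dvd_index (hquot V₀ hV₀ne)
    have hQm : IsPGroup p ((Q : Subgroup G).map m) := Q.2.map m
    have hsup : IsPGroup p (X ⊔ (Q : Subgroup G).map m : Subgroup (G ⧸ V₀)) := hXp.to_sup_of_normal_left hQm
    have h1 := eq_of_index_coprime le_sup_left hsup hXidx
    have h2 := eq_of_index_coprime le_sup_right hsup (fun h => hQidx (h.trans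
      (Subgroup.index_map_dvd _ (QuotientGroup.mk'_surjective V₀))))
    rw [h2, ← h1]
    exact hXn
  have hMn : ((Q : Subgroup G) ⊔ V₀).Normal := by
    have h1 : ((Q : Subgroup G).map m).comap m = (Q : Subgroup G) ⊔ V₀ := by
      rw [Subgroup.comap_map_eq, QuotientGroup.ker_mk']
    rw [← h1]
    exact hQbar.comap m
  have hnotQn : ¬ (Q : Subgroup G).Normal := fun hn => by
    haveI := hn
    refine hQidx (hdvd.trans (Subgroup.index_dvd_of_le ?_))
    exact Cfsg.Agent.Solv.normal_le_fitting Q.2.isNilpotent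
  have hqp : q ≠ p := by
    rintro rfl
    refine hnotQn ?_
    have hsup : IsPGroup q ((Q : Subgroup G) ⊔ V₀ : Subgroup G) := Q.2.to_sup_of_normal_right hqg
    rw [eq_of_index_coprime le_sup_left hsup hQidx]
    exact hMn
  -- the action
  letI : CommGroup V₀ := { (inferInstance : Group V₀) with mul_comm := hV₀c.is_comm.comm }
  letI : DistribMulAction G (Additive V₀) :=
    { smul := fun g v => Additive.ofMul (MulAut.conjNormal g v.toMul)
      one_smul := fun v => by
        show Additive.ofMul (MulAut.conjNormal (1 : G) v.toMul) = v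
        rw [map_one]; rfl
      mul_smul := fun a b v => by
        show Additive.ofMul (MulAut.conjNormal (a * b) v.toMul) = _
        rw [map_mul]; rfl
      smul_zero := fun a => congrArg Additive.ofMul (map_one (MulAut.conjNormal a))
      smul_add := fun a v w => congrArg Additive.ofMul (map_mul (MulAut.conjNormal a) v.toMul w.toMul) }
  have hsmul : ∀ (g : G) (v : Additive V₀), ((g • v).toMul : G) = g * (v.toMul : G) * g⁻¹ :=
    fun g v => MulAut.conjNormal_apply g v.toMul
  haveI : Nontrivial V₀ := (Subgroup.nontrivial_iff_ne_bot V₀).2 hV₀ne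
  have hirr : ∀ U : AddSubgroup (Additive V₀), (∀ g : G, ∀ x ∈ U, g • x ∈ U) → U = ⊥ ∨ U = ⊤ := by
    intro U hU
    let W : Subgroup V₀ := U.toSubgroup'
    have hWn : (W.map V₀.subtype).Normal := ⟨by
      rintro _ ⟨w, hw, rfl⟩ g
      exact ⟨MulAut.conjNormal g w, hU g (Additive.ofMul w) hw, MulAut.conjNormal_apply g w⟩⟩
    rcases hmin _ hWn (Subgroup.map_subtype_le _) with h | h
    · left
      rw [AddSubgroup.eq_bot_iff_forall]
      intro x hx
      have : (x.toMul : G) ∈ W.map V₀.subtype := ⟨x.toMul, hx, rfl⟩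
      rw [h, Subgroup.mem_bot] at this
      exact Additive.toMul.injective (Subtype.ext this)
    · right
      rw [AddSubgroup.eq_top_iff']
      intro x
      obtain ⟨w, hw, hwx⟩ := h.ge x.toMul.2
      rw [show x = Additive.ofMul w from Additive.toMul.injective (Subtype.ext hwx.symm)]
      exact hw
  obtain ⟨f, hf⟩ : ∃ f, f = QuotientGroup.mk' (kerV G (Additive V₀)) := ⟨_, rfl⟩
  have hfs : Function.Surjective f := hf ▸ QuotientGroup.mk'_surjective _
  letI := quotAct (A := G) (V := Additive V₀)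
  have hfsmul : ∀ (g : G) (v : Additive V₀), f g • v = g • v := fun g v => by rw [hf]; rfl
  obtain ⟨P, hP⟩ : ∃ P, P = (Q : Subgroup G).map f := ⟨_, rfl⟩
  have hPn : P.Normal := by
    have h1 : ((Q : Subgroup G) ⊔ V₀).map f = P := by
      rw [Subgroup.map_sup, hP, sup_eq_left]
      rintro _ ⟨v, hv, rfl⟩
      have : f v = 1 := by
        rw [hf]
        refine (QuotientGroup.eq_one_iff v).2 fun x => Additive.toMul.injective (Subtype.ext ?_)
        rw [hsmul]
        have h2 := congrArg Subtype.val (hV₀c.is_comm.comm (⟨v, hv⟩ : V₀) x.toMul)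
        simp only [Subgroup.coe_mul] at h2
        rw [h2, mul_inv_cancel_right]
      rw [this]; exact one_mem _
    rw [← h1]
    exact hMn.map f hfs
  have hPp : IsPGroup p P := hP ▸ Q.2.map f
  have hPidx : ¬ p ∣ P.index := fun h => hQidx (h.trans (hP ▸ Subgroup.index_map_dvd _ hfs))
  have hqA : ∀ v : Additive V₀, q • v = 0 := fun v => congrArg Additive.ofMul (Subtype.ext (hqV _ v.toMul.2) : v.toMul ^ q = 1)
  have hcop : (Nat.card (Additive V₀)).Coprime p := by
    obtain ⟨k, hk⟩ := IsPGroup.iff_card.1 hqg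
    rw [Nat.card_congr Additive.toMul, hk]
    exact ((Nat.coprime_primes hq hpp).2 hqp).pow_left k
  -- the fixed space of a normal subgroup is trivial or everything
  have hfixU : ∀ C : Subgroup (G ⧸ kerV G (Additive V₀)), C.Normal →
      (∀ v : Additive V₀, (∀ c ∈ C, c • v = v) → v = 0) ∨ C = ⊥ := by
    intro C hC
    let U : AddSubgroup (Additive V₀) :=
      { carrier := {v | ∀ k ∈ C, k • v = v}
        zero_mem' := fun k _ => smul_zero k
        add_mem' := fun {a b} ha hb k hk => by rw [smul_add, ha k hk, hb k hk]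
        neg_mem' := fun {a} ha k hk => by rw [smul_neg, ha k hk] }
    rcases hirr U fun g x hx k hk => by
      have h1 := hx _ (by simpa using hC.conj_mem k hk (f g)⁻¹ : (f g)⁻¹ * k * f g ∈ C)
      rw [mul_smul, mul_smul, inv_smul_eq_iff, hfsmul] at h1
      exact h1 with h | h
    · exact Or.inl fun v hv => (AddSubgroup.eq_bot_iff_forall U).1 h v hv
    · exact Or.inr ((Subgroup.eq_bot_iff_forall C).2 fun c hc => quot_faithful c fun x =>
        (h.ge (AddSubgroup.mem_top x) : x ∈ U) c hc)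
  have hPne : P ≠ ⊥ := by
    intro hb
    refine hnotQn ?_
    -- the Sylow subgroup centralises `V₀`, hence consists of the elements of `p`-power order
    have hc : ∀ y ∈ (Q : Subgroup G), ∀ v ∈ V₀, Commute y v := by
      intro y hy v hv
      have h1 : f y = 1 := Subgroup.mem_bot.1 (hb ▸ hP ▸ Subgroup.mem_map_of_mem f hy)
      have h2 := hsmul y (Additive.ofMul ⟨v, hv⟩)
      rw [← hfsmul, h1, one_smul] at h2
      exact (eq_mul_inv_iff_mul_eq.1 h2).symm
    refine ⟨fun y hy g => ?_⟩
    have hmem : g * y * g⁻¹ ∈ (Q : Subgroup G) ⊔ V₀ := hMn.conj_mem y (Subgroup.mem_sup_left hy) g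
    rw [Subgroup.mem_sup_of_normal_right] at hmem
    obtain ⟨y', hy', v, hv, he⟩ := hmem
    obtain ⟨k, hk⟩ := Q.2 ⟨y, hy⟩
    obtain ⟨k', hk'⟩ := Q.2 ⟨y', hy'⟩
    have hk1 : y ^ p ^ k = 1 := congrArg Subtype.val hk
    have hk2 : y' ^ p ^ k' = 1 := congrArg Subtype.val hk'
    have h1 : (g * y * g⁻¹) ^ p ^ (k + k') = 1 := by
      rw [conj_pow, pow_add, pow_mul, hk1, one_pow, mul_one, mul_inv_cancel]
    rw [← he, (hc y' hy' v hv).mul_pow, pow_add, mul_comm (p ^ k), pow_mul, hk2, one_pow, one_mul] at h1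
    have h2 : v ^ Nat.gcd q (p ^ k' * p ^ k) = 1 := pow_gcd_eq_one.2 ⟨hqV v hv, h1⟩
    rw [← pow_add, (((Nat.coprime_primes hq hpp).2 hqp).pow_right (k' + k)).gcd_eq_one, pow_one] at h2
    rw [← he, h2, mul_one]
    exact hy'
  have hfixP := (hfixU P hPn).resolve_right hPne
  have horb : Nat.card (MulAction.orbitRel.Quotient (G ⧸ kerV G (Additive V₀)) (Additive V₀)) ≤
      Nat.card (ConjClasses G) := by
    refine Nat.card_le_card_of_injective (Quotient.lift (fun v : Additive V₀ => ConjClasses.mk (v.toMul : G)) ?_) ?_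
    · intro a b hab
      obtain ⟨γ, hγ⟩ := MulAction.orbitRel_apply.1 hab
      obtain ⟨g, rfl⟩ := hfs γ
      refine ConjClasses.mk_eq_mk_iff_isConj.2 (isConj_iff.2 ⟨g⁻¹, ?_⟩)
      rw [← hγ]
      show g⁻¹ * ((f g • b).toMul : G) * g⁻¹⁻¹ = _
      rw [hfsmul, hsmul]; group
    · rintro ⟨a⟩ ⟨b⟩ hab
      obtain ⟨g, hg⟩ := isConj_iff.1 (ConjClasses.mk_eq_mk_iff_isConj.1 hab)
      refine Quotient.sound' (MulAction.orbitRel_apply.2 ⟨f g⁻¹, ?_⟩)
      show f g⁻¹ • b = a
      rw [hfsmul]
      refine Additive.toMul.injective (Subtype.ext ?_)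
      rw [hsmul, ← hg]; group
  have hcls : Nat.card (ConjClasses (G ⧸ kerV G (Additive V₀))) ≤ Nat.card (ConjClasses G) :=
    Nat.card_le_card_of_surjective _ (ConjClasses.map_surjective hfs)
  haveI := hPn
  rcases hfixU ⁅P, P⁆ inferInstance with hder | hab
  · exact (nonabelian_orbits hp2 hp h7 (by omega) _ _ _ le_rfl hcop P hPn hPp hder).trans
      (Nat.mul_le_mul_left _ horb)
  · have hcomm : ∀ a ∈ P, ∀ b ∈ P, Commute a b := fun a ha b hb =>
      commutatorElement_eq_one_iff_mul_comm.1 (Subgroup.mem_bot.1 (hab ▸ Subgroup.commutator_mem_commutator ha hb))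
    rcases abelian_step hqA hl hp P hPp hPidx hcomm hcop hfixP with h | h
    · exact h.trans (Nat.mul_le_mul_left _ hcls)
    · exact h.trans (Nat.mul_le_mul_left _ horb)

/-- The bound, by induction on the order. -/
theorem main_bound {p l : ℕ} [Fact p.Prime] (hl : 5 ≤ l) (hp : p < 2 ^ (l + 1)) (h7 : 7 * (l + 1) ≤ p) :
    ∀ (n : ℕ) (G : Type u) [Group G] [Finite G], Nat.card G ≤ n → Group.IsSolvable G →
      p ∣ (Cfsg.fittingSubgroup G).index → p ≤ 3 * l * Nat.card (ConjClasses G) := by
  intro n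
  induction n with
  | zero => intro G _ _ hn; have := Nat.card_pos (α := G); omega
  | succ n ih =>
    intro G _ _ hn hG hdvd
    haveI : Nontrivial G := by
      rcases subsingleton_or_nontrivial G with hs | hs
      · exfalso
        rw [Subsingleton.elim (Cfsg.fittingSubgroup G) ⊤, Subgroup.index_top, Nat.dvd_one] at hdvd
        exact (Fact.out : p.Prime).ne_one hdvd
      · exact hs
    by_cases hquot : ∀ (N : Subgroup G) [N.Normal], N ≠ ⊥ → ¬ p ∣ (Cfsg.fittingSubgroup (G ⧸ N)).index
    · exact step hl hp h7 hG hdvd hquot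
    · push Not at hquot
      obtain ⟨N, hN, hN0, hd⟩ := hquot
      haveI := hN
      have hlt := Cfsg.Agent.Solv.card_quotient_lt N hN0
      have h1 := ih (G ⧸ N) (by omega) (Group.isSolvable_of_surjective (QuotientGroup.mk'_surjective N)) hd
      exact h1.trans (Nat.mul_le_mul_left _
        (Nat.card_le_card_of_surjective _ (ConjClasses.map_surjective (QuotientGroup.mk'_surjective N))))

end Cfsg.Agent.Solv.ClassLower
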